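import Cfsg.Agent.Lib.ThetaLattice.Frame

/-!
# Leech lattice from the vector counts

A class of norm 8 modulo twice the lattice gives a frame, and the frame coordinates satisfy
`FrameLattice`.
-/

set_option autoImplicit false

open Matrix Finset
open Cfsg
open CfsgLib.Spor.LatticeClasses

noncomputable section

namespace CfsgLib.ThetaLattice

variable {B : Matrix (Fin 24) (Fin 24) ℤ}

lemma bil_comm (hsymm : B.IsSymm) (x y : Fin 24 → ℤ) : x ⬝ᵥ (B *ᵥ y) = y ⬝ᵥ (B *ᵥ x) := by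
  rw [dotProduct_mulVec, dotProduct_comm, ← mulVec_transpose, hsymm.eq]

/-- Expansion in an orthogonal frame of norm 8. -/
lemma frame_expansion (hpos : ∀ x : Fin 24 → ℤ, x ≠ 0 → 0 < q B x)
    {v : Fin 24 → (Fin 24 → ℤ)} (hn : ∀ i, q B (v i) = 8)
    (ho : ∀ i j, i ≠ j → v i ⬝ᵥ (B *ᵥ v j) = 0) (z : Fin 24 → ℤ) :
    (8 : ℤ) • z = ∑ i, (v i ⬝ᵥ (B *ᵥ z)) • v i := by
  classical
  obtain ⟨w, hw⟩ : ∃ w, w = (8 : ℤ) • z - ∑ i, (v i ⬝ᵥ (B *ᵥ z)) • v i := ⟨_, rfl⟩
  have hvv : ∀ j i, v j ⬝ᵥ (B *ᵥ v i) = if i = j then 8 else 0 := fun j i => by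
    split_ifs with h
    · subst h; exact hn i
    · exact ho j i (Ne.symm h)
  have horth : ∀ j, v j ⬝ᵥ (B *ᵥ w) = 0 := by
    intro j
    simp only [hw, Matrix.mulVec_sub, Matrix.mulVec_sum, Matrix.mulVec_smul, dotProduct_sub,
      dotProduct_sum, dotProduct_smul, smul_eq_mul, hvv, mul_ite, mul_zero, Finset.sum_ite_eq',
      Finset.mem_univ, if_true]
    ring
  rw [← sub_eq_zero, ← hw]
  by_contra hne
  have hli : LinearIndependent ℤ (fun o : Option (Fin 24) => o.elim w v) := by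
    rw [Fintype.linearIndependent_iff]
    intro g hg
    rw [Fintype.sum_option] at hg
    simp only [Option.elim] at hg
    have hj : ∀ j, g (some j) = 0 := by
      intro j
      have h := congrArg (fun u => v j ⬝ᵥ (B *ᵥ u)) hg
      simp only [Matrix.mulVec_add, Matrix.mulVec_sum, Matrix.mulVec_smul, dotProduct_add,
        dotProduct_sum, dotProduct_smul, smul_eq_mul, hvv, horth, mul_ite, mul_zero, zero_add,
        Finset.sum_ite_eq', Finset.mem_univ, if_true, Matrix.mulVec_zero, dotProduct_zero] at h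
      omega
    simp only [hj, zero_smul, Finset.sum_const_zero, add_zero, smul_eq_zero] at hg
    intro o
    cases o with
    | none => exact hg.resolve_right hne
    | some j => exact hj j
  have := hli.fintype_card_le_finrank
  rw [Module.finrank_fin_fun, Fintype.card_option, Fintype.card_fin] at this
  omega

/-- Half of a set closed under negation. -/
lemma exists_half (F : Finset (Fin 24 → ℤ)) (hneg : ∀ y ∈ F, -y ∈ F) (h0 : (0 : Fin 24 → ℤ) ∉ F)
    (hc : F.card = 48) : ∃ v : Fin 24 → (Fin 24 → ℤ), (∀ i, v i ∈ F) ∧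
      ∀ i j, i ≠ j → v i ≠ v j ∧ v i ≠ -v j := by
  classical
  obtain ⟨P, hP⟩ : ∃ P, P = F.filter fun y => toLex (-y) < toLex y := ⟨_, rfl⟩
  obtain ⟨Q, hQ⟩ : ∃ Q, Q = F.filter fun y => ¬ toLex (-y) < toLex y := ⟨_, rfl⟩
  have hne : ∀ y ∈ F, -y ≠ y := fun y hy h => h0 (by
    have : y = 0 := funext fun i => by
      have := congrFun h i
      simp only [Pi.neg_apply] at this
      simp only [Pi.zero_apply]
      omega
    exact this ▸ hy)
  have hPQ : P.card = Q.card := by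
    refine Finset.card_bij (fun y _ => -y) (fun y hy => ?_) (fun a _ b _ h => neg_injective h)
      (fun y hy => ⟨-y, ?_, neg_neg y⟩)
    · rw [hP, Finset.mem_filter] at hy
      rw [hQ, Finset.mem_filter, neg_neg]
      exact ⟨hneg y hy.1, lt_asymm hy.2⟩
    · rw [hQ, Finset.mem_filter] at hy
      rw [hP, Finset.mem_filter, neg_neg]
      exact ⟨hneg y hy.1, lt_of_le_of_ne (not_lt.mp hy.2) fun h =>
        hne y hy.1 (toLex.injective h).symm⟩
  have hsum : P.card + Q.card = F.card := by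
    rw [hP, hQ, Finset.card_filter_add_card_filter_not]
  have h24 : Fintype.card P = 24 := by rw [Fintype.card_coe]; omega
  obtain ⟨e⟩ : Nonempty (Fin 24 ≃ P) := ⟨(Fintype.equivFinOfCardEq h24).symm⟩
  have hmem : ∀ i, (e i : Fin 24 → ℤ) ∈ F ∧ toLex (-(e i : Fin 24 → ℤ)) < toLex (e i : Fin 24 → ℤ) :=
    fun i => by
      have := (e i).2
      simpa only [hP, Finset.mem_filter] using this
  refine ⟨fun i => (e i : Fin 24 → ℤ), fun i => (hmem i).1,
    fun i j hij => ⟨fun h => hij (e.injective (Subtype.ext h)), fun h => ?_⟩⟩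
  have h1 := (hmem i).2
  simp only at h
  rw [h, neg_neg] at h1
  exact lt_asymm h1 (hmem j).2

/-- The counts characterise the Leech lattice. -/
theorem exists_equiv_leech (hsymm : B.IsSymm) (hpos : ∀ x : Fin 24 → ℤ, x ≠ 0 → 0 < q B x)
    (heven : ∀ x : Fin 24 → ℤ, (2 : ℤ) ∣ q B x) (h2 : ∀ x : Fin 24 → ℤ, q B x ≠ 2)
    (h4 : {x | q B x = 4}.ncard = 196560) (h6 : {x | q B x = 6}.ncard = 16773120)
    (h8 : {x | q B x = 8}.ncard = 398034000) :
    ∃ f : (Fin 24 → ℤ) ≃+ Cfsg.leechLattice, ∀ x : Fin 24 → ℤ,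
      Cfsg.sqNorm ((f x : Cfsg.leechLattice) : Cfsg.GolayPt → ℤ) = 8 * q B x := by
  classical
  obtain ⟨x₀, hx₀⟩ : {x | q B x = 8}.Nonempty :=
    Set.nonempty_of_ncard_ne_zero (by rw [h8]; norm_num)
  have hcls := class_card_eq hsymm hpos heven h2 h4 h6 h8 x₀ hx₀
  have hfin : {y | q B y = 8 ∧ red x₀ = red y}.Finite :=
    Set.finite_of_ncard_ne_zero (by rw [hcls]; norm_num)
  obtain ⟨F, hF, hFc⟩ : ∃ F : Finset (Fin 24 → ℤ),
      (∀ y, y ∈ F ↔ q B y = 8 ∧ red x₀ = red y) ∧ F.card = 48 :=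
    ⟨hfin.toFinset, fun y => hfin.mem_toFinset,
      by rw [← Set.ncard_eq_toFinset_card _ hfin, hcls]⟩
  obtain ⟨v, hvF, hvne⟩ := exists_half F
    (fun y hy => (hF _).mpr ⟨by rw [q_neg]; exact ((hF y).mp hy).1,
      by rw [red_neg]; exact ((hF y).mp hy).2⟩)
    (fun h => by
      have := ((hF 0).mp h).1
      rw [q_zero] at this
      omega) hFc
  have hn : ∀ i, q B (v i) = 8 := fun i => ((hF _).mp (hvF i)).1
  have hred : ∀ i j, red (v i) = red (v j) := fun i j =>
    ((hF _).mp (hvF i)).2.symm.trans ((hF _).mp (hvF j)).2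
  have ho : ∀ i j, i ≠ j → v i ⬝ᵥ (B *ᵥ v j) = 0 := by
    intro i j hij
    refine (congr_bounds hsymm hpos heven h2 (hred i j) (fun h => (hvne i j hij).1 h.symm)
      (fun h => (hvne i j hij).2 (by rw [h, neg_neg]))).2 ?_
    rw [hn, hn]; norm_num
  have hexp := frame_expansion hpos hn ho
  obtain ⟨φ, hφ⟩ : ∃ φ : (Fin 24 → ℤ) →+ (Fin 24 → ℤ), ∀ z i, φ z i = v i ⬝ᵥ (B *ᵥ z) :=
    ⟨{ toFun := fun z i => v i ⬝ᵥ (B *ᵥ z)
       map_zero' := funext fun i => by simp
       map_add' := fun a b => funext fun i => by simp [Matrix.mulVec_add] }, fun _ _ => rfl⟩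
  have hdot : ∀ z w, ∑ i, φ z i * φ w i = 8 * (z ⬝ᵥ (B *ᵥ w)) := by
    intro z w
    have h := congrArg (fun u => u ⬝ᵥ (B *ᵥ w)) (hexp z)
    simp only [smul_dotProduct, sum_dotProduct, smul_eq_mul] at h
    simp only [hφ]
    exact h.symm
  have hinj : Function.Injective φ := by
    rw [injective_iff_map_eq_zero]
    intro z hz
    by_contra hne
    have h := hdot z z
    simp only [hz, Pi.zero_apply, mul_zero, Finset.sum_const_zero] at h
    have h' : q B z = z ⬝ᵥ (B *ᵥ z) := rfl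
    have := hpos z hne
    omega
  have hφv : ∀ i, φ (v i) = Pi.single i 8 := by
    intro i
    funext j
    rw [hφ, Pi.single_apply]
    split_ifs with h
    · subst h; exact hn j
    · exact ho j i h
  have hM : FrameLattice φ.range := by
    refine ⟨?_, ?_, ?_, ?_, ?_⟩
    · rintro _ ⟨z, rfl⟩ i j
      obtain ⟨t, ht⟩ : ∃ t : Fin 24 → ℤ, v i - v j = (2 : ℤ) • t :=
        ⟨fun k => (v i - v j) k / 2,
          funext fun k => (Int.mul_ediv_cancel' (red_eq_red.mp (hred i j) k)).symm⟩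
      have : φ z i - φ z j = 2 * (t ⬝ᵥ (B *ᵥ z)) := by
        rw [hφ, hφ, ← sub_dotProduct, ht, smul_dotProduct, smul_eq_mul]
      omega
    · rintro _ ⟨z, rfl⟩ _ ⟨w, rfl⟩
      exact ⟨_, hdot z w⟩
    · rintro _ ⟨z, rfl⟩ hne
      have hz : z ≠ 0 := fun h => hne (by rw [h, map_zero])
      have h1 := hdot z z
      have h' : q B z = z ⬝ᵥ (B *ᵥ z) := rfl
      have := hpos z hz
      have := heven z
      have := h2 z
      simp only [sq]
      omega
    · intro i j
      obtain ⟨t, ht⟩ : ∃ t : Fin 24 → ℤ, v i + v j = (2 : ℤ) • t := by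
        refine ⟨fun k => (v i + v j) k / 2, funext fun k => ?_⟩
        have := red_eq_red.mp (hred i j) k
        simp only [Pi.sub_apply] at this
        simp only [Pi.add_apply, Pi.smul_apply, smul_eq_mul]
        omega
      refine ⟨t, funext fun k => ?_⟩
      have h := congrArg (fun u => φ u k) ht
      simp only [map_add, map_zsmul, hφv, Pi.add_apply, Pi.smul_apply, smul_eq_mul,
        Pi.single_apply] at h
      simp only [Pi.add_apply, Pi.single_apply]
      split_ifs at h ⊢ <;> omega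
    · have himg : {x | x ∈ φ.range ∧ ∑ i, x i ^ 2 = 32} = φ '' {z | q B z = 4} := by
        ext x
        constructor
        · rintro ⟨⟨z, rfl⟩, hx⟩
          refine ⟨z, ?_, rfl⟩
          simp only [sq] at hx
          rw [hdot] at hx
          show z ⬝ᵥ (B *ᵥ z) = 4
          omega
        · rintro ⟨z, hz, rfl⟩
          refine ⟨⟨z, rfl⟩, ?_⟩
          simp only [sq]
          rw [hdot]
          have hz' : z ⬝ᵥ (B *ᵥ z) = 4 := hz
          omega
      rw [himg, Set.ncard_image_of_injective _ hinj, h4]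
  obtain ⟨T, hTinj, hTnorm, hTM⟩ := hM.exists_iso
  have hmem : ∀ z, T (φ z) ∈ leechLattice := fun z => hTM ▸ ⟨φ z, ⟨z, rfl⟩, rfl⟩
  obtain ⟨g, hg⟩ : ∃ g : (Fin 24 → ℤ) →+ leechLattice,
      ∀ z, (g z : GolayPt → ℤ) = T (φ z) :=
    ⟨(T.comp φ).codRestrict leechLattice hmem, fun _ => rfl⟩
  have hgbij : Function.Bijective g := by
    refine ⟨fun a b h => hinj (hTinj ?_), fun ⟨y, hy⟩ => ?_⟩
    · rw [← hg, ← hg, h]
    · rw [← hTM] at hy
      obtain ⟨_, ⟨z, rfl⟩, rfl⟩ := hy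
      exact ⟨z, Subtype.ext (hg z)⟩
  refine ⟨AddEquiv.ofBijective g hgbij, fun z => ?_⟩
  rw [AddEquiv.ofBijective_apply, hg, hTnorm]
  simp only [sq]
  exact hdot z z

end CfsgLib.ThetaLattice
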