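import Cfsg.Agent.Lib.Spor.LatticeClasses
import Cfsg.Agent.Lib.Spor.Golay.Consequences
import Cfsg.Agent.Lib.Spor.Leech.Span
import Mathlib.LinearAlgebra.Dual.Lemmas

/-!
# Recognising the Leech lattice from a frame

A lattice in `ℤ^24` containing all `4 e_i + 4 e_j`, of minimal norm 32 with 196560 minimal
vectors and all products divisible by 8, is the Leech lattice after a signed renaming of the
coordinates (Conway).
-/

set_option autoImplicit false

open Matrix Finset
open Cfsg CfsgLib.Spor.Code24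

noncomputable section

namespace CfsgLib.ThetaLattice

/-- The `D_24` sublattice lies in any lattice containing all `4 e_i + 4 e_j`. -/
lemma mem_of_four {ι : Type*} [Fintype ι] [DecidableEq ι] (o : ι) (M : AddSubgroup (ι → ℤ))
    (h4 : ∀ i j, (Pi.single i (4 : ℤ) + Pi.single j 4 : ι → ℤ) ∈ M) {x : ι → ℤ}
    (hx : ∀ i, x i % 4 = 0) (hs : (∑ i, x i) % 8 = 0) : x ∈ M := by
  obtain ⟨t, ht⟩ : ∃ t : ℤ, ∑ i, x i / 4 = 2 * t := by
    refine ⟨(∑ i, x i / 4) / 2, ?_⟩
    have : ∑ i, x i = 4 * ∑ i, x i / 4 := by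
      rw [Finset.mul_sum]
      exact Finset.sum_congr rfl fun i _ => by have := hx i; omega
    omega
  have hdec : x = ∑ p, (x p / 4) • ((Pi.single p (4 : ℤ) + Pi.single o 4 : ι → ℤ)
      - (Pi.single o (4 : ℤ) + Pi.single o 4)) + t • (Pi.single o (4 : ℤ) + Pi.single o 4) := by
    funext i
    simp only [Pi.add_apply, Finset.sum_apply, Pi.smul_apply, Pi.sub_apply, smul_eq_mul,
      Pi.single_apply, mul_sub, mul_add, Finset.sum_sub_distrib, Finset.sum_add_distrib,
      mul_ite, mul_zero, Finset.sum_ite_eq, Finset.mem_univ, if_true]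
    have := hx i
    split_ifs with hio
    · rw [← Finset.sum_mul, ht]
      omega
    · simp only [Finset.sum_const_zero]
      omega
  rw [hdec]
  exact M.add_mem (M.sum_mem fun p _ => M.zsmul_mem (M.sub_mem (h4 _ _) (h4 _ _)) _)
    (M.zsmul_mem (h4 _ _) _)

/-- The lattice seen in the coordinates of a frame. -/
structure FrameLattice (M : AddSubgroup (Fin 24 → ℤ)) : Prop where
  parity : ∀ x ∈ M, ∀ i j, x i % 2 = x j % 2
  dot : ∀ x ∈ M, ∀ y ∈ M, (8 : ℤ) ∣ ∑ i, x i * y i
  min : ∀ x ∈ M, x ≠ 0 → 32 ≤ ∑ i, x i ^ 2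
  four : ∀ i j, (Pi.single i (4 : ℤ) + Pi.single j 4 : Fin 24 → ℤ) ∈ M
  count : {x | x ∈ M ∧ ∑ i, x i ^ 2 = 32}.ncard = 196560

/-- The second binary digit. -/
def digitF (x : Fin 24 → ℤ) : Word := fun i => ((x i / 2 : ℤ) : ZMod 2)

lemma digitF_eq_zero (x : Fin 24 → ℤ) (i : Fin 24) : digitF x i = 0 ↔ (x i / 2) % 2 = 0 :=
  CfsgLib.Spor.Leech.zmod2_cast_eq_zero _

lemma digitF_eq_iff (x y : Fin 24 → ℤ) (i : Fin 24) :
    digitF x i = digitF y i ↔ (x i / 2 - y i / 2) % 2 = 0 := by
  rw [← CfsgLib.Spor.Leech.zmod2_cast_eq_zero, Int.cast_sub, sub_eq_zero]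
  rfl

lemma digitF_add {x y : Fin 24 → ℤ} (hx : ∀ i, x i % 2 = 0) :
    digitF (x + y) = digitF x + digitF y := by
  funext i
  simp only [digitF, Pi.add_apply, ← Int.cast_add]
  congr 1
  have := hx i
  omega

/-- The code of the even vectors. -/
def codeGroup (M : AddSubgroup (Fin 24 → ℤ)) : AddSubgroup Word where
  carrier := {w | ∃ x ∈ M, (∀ i, x i % 2 = 0) ∧ digitF x = w}
  zero_mem' := ⟨0, M.zero_mem, fun _ => rfl, funext fun i => by simp [digitF]⟩
  add_mem' := by
    rintro _ _ ⟨x, hx, hx2, rfl⟩ ⟨y, hy, hy2, rfl⟩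
    exact ⟨x + y, M.add_mem hx hy, fun i => by
      have := hx2 i; have := hy2 i; simp only [Pi.add_apply]; omega, digitF_add hx2⟩
  neg_mem' := by
    rintro _ ⟨x, hx, hx2, rfl⟩
    refine ⟨-x, M.neg_mem hx, fun i => by have := hx2 i; simp only [Pi.neg_apply]; omega, ?_⟩
    funext i
    rw [Pi.neg_apply, ZMod.neg_eq_self_mod_two, digitF_eq_iff]
    have := hx2 i
    simp only [Pi.neg_apply]
    omega

/-- The code of the even vectors as a subspace. -/
def code (M : AddSubgroup (Fin 24 → ℤ)) : Submodule (ZMod 2) Word :=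
  AddSubgroup.toZModSubmodule 2 (codeGroup M)

lemma mem_code {M : AddSubgroup (Fin 24 → ℤ)} {w : Word} :
    w ∈ code M ↔ ∃ x ∈ M, (∀ i, x i % 2 = 0) ∧ digitF x = w := Iff.rfl

variable {M : AddSubgroup (Fin 24 → ℤ)} (hM : FrameLattice M)

lemma sum_sq_eight {x : Fin 24 → ℤ} (hodd : ∀ i, x i % 2 = 1) (hn : ∑ i, x i ^ 2 = 32) :
    ∃ i₀, x i₀ ^ 2 = 9 ∧ ∀ j, j ≠ i₀ → x j ^ 2 = 1 := by
  have h8 : ∀ i, (8 : ℤ) ∣ x i ^ 2 - 1 ∧ 0 ≤ x i ^ 2 - 1 := by
    intro i
    obtain ⟨k, hk⟩ : ∃ k, x i = 2 * k + 1 := ⟨x i / 2, by have := hodd i; omega⟩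
    obtain ⟨m, hm⟩ : ∃ m, k * (k + 1) = 2 * m := by
      obtain ⟨m, hm⟩ := Int.even_mul_succ_self k
      exact ⟨m, by omega⟩
    have he : x i ^ 2 - 1 = 8 * m := by rw [hk]; linear_combination 4 * hm
    refine ⟨⟨m, he⟩, ?_⟩
    have : x i ≠ 0 := by have := hodd i; omega
    nlinarith [Int.one_le_abs this, abs_nonneg (x i), sq_abs (x i)]
  have hs : ∑ i, (x i ^ 2 - 1) = 8 := by simp [Finset.sum_sub_distrib, hn]
  obtain ⟨i₀, hi₀⟩ : ∃ i₀, x i₀ ^ 2 - 1 ≠ 0 := by
    by_contra hc
    push Not at hc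
    simp [hc] at hs
  have hsplit := Finset.add_sum_erase _ (fun i => x i ^ 2 - 1) (Finset.mem_univ i₀)
  have hrest : 0 ≤ ∑ i ∈ Finset.univ.erase i₀, (x i ^ 2 - 1) :=
    Finset.sum_nonneg fun i _ => (h8 i).2
  have := (h8 i₀).1
  have := (h8 i₀).2
  refine ⟨i₀, by omega, fun j hj => ?_⟩
  have hz : ∑ i ∈ Finset.univ.erase i₀, (x i ^ 2 - 1) = 0 := by omega
  have := (Finset.sum_eq_zero_iff_of_nonneg fun i _ => (h8 i).2).mp hz j
    (Finset.mem_erase.mpr ⟨hj, Finset.mem_univ j⟩)
  omega

lemma eight_sparse {x : Fin 24 → ℤ} (hev : ∀ i, x i % 2 = 0) (hn : ∑ i, x i ^ 2 = 32)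
    (hw : 8 ≤ hammingNorm (digitF x)) :
    hammingNorm (digitF x) = 8 ∧
      (∀ i, digitF x i = 0 → x i = 0) ∧ (∀ i, digitF x i ≠ 0 → x i = 2 ∨ x i = -2) := by
  classical
  obtain ⟨u, hu⟩ : ∃ u : Fin 24 → ℤ, ∀ i, x i = 2 * u i :=
    ⟨fun i => x i / 2, fun i => by have := hev i; show x i = 2 * (x i / 2); omega⟩
  have hd : ∀ i, digitF x i = 0 ↔ u i % 2 = 0 := fun i => by
    rw [digitF_eq_zero, hu i]; omega
  have h8 : ∑ i, u i ^ 2 = 8 := by
    have : ∑ i, x i ^ 2 = 4 * ∑ i, u i ^ 2 := by
      rw [Finset.mul_sum]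
      exact Finset.sum_congr rfl fun i _ => by rw [hu i]; ring
    omega
  have hge : ∀ i, 0 ≤ u i ^ 2 - (if digitF x i = 0 then 0 else 1) := by
    intro i
    split_ifs with h
    · simpa using sq_nonneg (u i)
    · have : u i ≠ 0 := fun h0 => h ((hd i).mpr (by rw [h0]; rfl))
      nlinarith [Int.one_le_abs this, abs_nonneg (u i), sq_abs (u i)]
  have hcard : ∑ i, (if digitF x i = 0 then (0 : ℤ) else 1) = hammingNorm (digitF x) := by
    rw [Finset.sum_ite, Finset.sum_const_zero, zero_add, Finset.sum_const, nsmul_eq_mul, mul_one]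
    rfl
  have hsum : ∑ i, (u i ^ 2 - (if digitF x i = 0 then (0 : ℤ) else 1))
      = 8 - hammingNorm (digitF x) := by
    rw [Finset.sum_sub_distrib, h8, hcard]
  have hnn := Finset.sum_nonneg (fun i (_ : i ∈ (Finset.univ : Finset (Fin 24))) => hge i)
  have hz : hammingNorm (digitF x) = 8 := by omega
  have hall := (Finset.sum_eq_zero_iff_of_nonneg fun i _ => hge i).mp (by rw [hsum, hz]; norm_num)
  refine ⟨hz, fun i hi => ?_, fun i hi => ?_⟩
  · have := hall i (Finset.mem_univ i)
    rw [if_pos hi, sub_zero] at this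
    have hu0 : u i = 0 := pow_eq_zero_iff two_ne_zero |>.mp this
    rw [hu i, hu0, mul_zero]
  · have := hall i (Finset.mem_univ i)
    rw [if_neg hi, sub_eq_zero] at this
    rcases sq_eq_one_iff.mp this with h | h <;> rw [hu i, h] <;> norm_num

include hM

lemma FrameLattice.code_min {w : Word} (hw : w ∈ code M) (hne : w ≠ 0) :
    8 ≤ hammingNorm w := by
  classical
  obtain ⟨x, hx, hev, rfl⟩ := mem_code.mp hw
  obtain ⟨i₀, hi₀⟩ : ∃ i, digitF x i ≠ 0 := by
    by_contra hc
    push Not at hc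
    exact hne (funext hc)
  have hkey : ∀ δ : ℤ, δ = 2 ∨ δ = -2 →
      (∑ i, (x i - if digitF x i = 0 then 0 else if i = i₀ then δ else 2)) % 8 = 0 →
      8 ≤ hammingNorm (digitF x) := by
    intro δ hδ hs
    obtain ⟨z, hz⟩ : ∃ z : Fin 24 → ℤ,
        z = fun i => if digitF x i = 0 then 0 else if i = i₀ then δ else 2 := ⟨_, rfl⟩
    have hxz : x - z ∈ M := by
      refine mem_of_four i₀ M hM.four (fun i => ?_) ?_
      · have := hev i
        have := (digitF_eq_zero x i)
        simp only [Pi.sub_apply, hz]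
        split_ifs with h1 h2
        · rw [this] at h1; omega
        · rw [this] at h1; omega
        · rw [this] at h1; omega
      · simpa [hz] using hs
    have hzM : z ∈ M := by simpa using M.sub_mem hx hxz
    have hz0 : z ≠ 0 := fun h => by
      have := congrFun h i₀
      simp only [hz, hi₀, if_false, if_true, Pi.zero_apply] at this
      omega
    have hn : ∑ i, z i ^ 2 = 4 * (hammingNorm (digitF x) : ℤ) := by
      have : ∀ i, z i ^ 2 = if digitF x i = 0 then 0 else 4 := fun i => by
        simp only [hz]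
        split_ifs with h1 h2 <;> rcases hδ with rfl | rfl <;> norm_num
      simp only [this, Finset.sum_ite, Finset.sum_const_zero, zero_add, Finset.sum_const,
        nsmul_eq_mul]
      rw [mul_comm]
      rfl
    have := hM.min z hzM hz0
    omega
  have hsplit : ∀ δ : ℤ,
      (∑ i, (x i - if digitF x i = 0 then 0 else if i = i₀ then δ else 2))
        = (∑ i, (x i - if digitF x i = 0 then 0 else 2)) + (2 - δ) := by
    intro δ
    rw [← sub_eq_iff_eq_add', ← Finset.sum_sub_distrib,
      Finset.sum_eq_single i₀ (fun b _ hb => by simp [hb]) (fun h => absurd (Finset.mem_univ _) h)]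
    simp [hi₀]
  have h4 : (∑ i, (x i - if digitF x i = 0 then 0 else 2)) % 4 = 0 := by
    refine Int.emod_eq_zero_of_dvd (Finset.dvd_sum fun i _ => ?_)
    have := hev i
    have h := digitF_eq_zero x i
    split_ifs with h1 <;> rw [h] at h1 <;> omega
  by_cases h8 : (∑ i, (x i - if digitF x i = 0 then 0 else 2)) % 8 = 0
  · exact hkey 2 (Or.inl rfl) (by rw [hsplit]; omega)
  · exact hkey (-2) (Or.inr rfl) (by rw [hsplit]; omega)

lemma FrameLattice.code_orth {v w : Word} (hv : v ∈ code M) (hw : w ∈ code M) :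
    ∑ i, v i * w i = 0 := by
  obtain ⟨x, hx, hx2, rfl⟩ := mem_code.mp hv
  obtain ⟨y, hy, hy2, rfl⟩ := mem_code.mp hw
  have h := hM.dot x hx y hy
  have he : ∑ i, x i * y i = 4 * ∑ i, (x i / 2) * (y i / 2) := by
    rw [Finset.mul_sum]
    refine Finset.sum_congr rfl fun i _ => ?_
    obtain ⟨a, ha⟩ : ∃ a, x i = 2 * a := ⟨x i / 2, by have := hx2 i; omega⟩
    obtain ⟨b, hb⟩ : ∃ b, y i = 2 * b := ⟨y i / 2, by have := hy2 i; omega⟩
    rw [ha, hb, Int.mul_ediv_cancel_left _ two_ne_zero, Int.mul_ediv_cancel_left _ two_ne_zero]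
    ring
  have h2 : ((∑ i, (x i / 2) * (y i / 2) : ℤ) : ZMod 2) = 0 :=
    (CfsgLib.Spor.Leech.zmod2_cast_eq_zero _).mpr (by omega)
  simpa [digitF] using h2

lemma FrameLattice.finrank_le : Module.finrank (ZMod 2) (code M) ≤ 12 := by
  have hle : (code M).map (dotProductEquiv (ZMod 2) (Fin 24)).toLinearMap
      ≤ (code M).dualAnnihilator := by
    rintro _ ⟨v, hv, rfl⟩
    rw [Submodule.mem_dualAnnihilator]
    intro w hw
    exact hM.code_orth hv hw
  have h1 : Module.finrank (ZMod 2) (code M)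
      ≤ Module.finrank (ZMod 2) (code M).dualAnnihilator :=
    (LinearEquiv.finrank_map_eq _ (code M)).symm.trans_le (Submodule.finrank_mono hle)
  have h2 : Module.finrank (ZMod 2) (code M)
      + Module.finrank (ZMod 2) (code M).dualAnnihilator = 24 :=
    (Subspace.finrank_add_finrank_dualAnnihilator_eq (code M)).trans (Module.finrank_fin_fun _)
  omega

lemma FrameLattice.octad_bound (W : Finset Word) (hW : ∀ w ∈ W, w ∈ code M ∧ hammingNorm w = 8) :
    W.card ≤ 759 := by
  classical
  have hdisj : (W : Set Word).PairwiseDisjoint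
      fun w => (support₂ w).powersetCard 5 := by
    intro v hv w hw hne
    rw [Function.onFun, Finset.disjoint_left]
    intro A hA hA'
    rw [Finset.mem_powersetCard] at hA hA'
    have h5 : 5 ≤ (support₂ v ∩ support₂ w).card :=
      hA.2 ▸ Finset.card_le_card (Finset.subset_inter hA.1 hA'.1)
    have hsum := norm_add v w
    have h8 := hM.code_min ((code M).add_mem (hW v hv).1 (hW w hw).1) (fun h => hne (by
      rw [← sub_eq_add', sub_eq_zero] at h
      exact h))
    have := (hW v hv).2
    have := (hW w hw).2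
    omega
  have hcard : (W.biUnion fun w => (support₂ w).powersetCard 5).card = 56 * W.card := by
    rw [Finset.card_biUnion hdisj, Finset.sum_congr rfl fun w hw => by
      rw [Finset.card_powersetCard, ← norm_eq, (hW w hw).2]]
    simp [Finset.sum_const, show Nat.choose 8 5 = 56 by rfl, mul_comm]
  have hsub : (W.biUnion fun w => (support₂ w).powersetCard 5)
      ⊆ (Finset.univ : Finset (Fin 24)).powersetCard 5 := fun A hA => by
    obtain ⟨w, -, hw⟩ := Finset.mem_biUnion.mp hA
    exact Finset.mem_powersetCard.mpr ⟨Finset.subset_univ _, (Finset.mem_powersetCard.mp hw).2⟩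
  have := Finset.card_le_card hsub
  rw [hcard, Finset.card_powersetCard, Finset.card_univ, Fintype.card_fin,
    show Nat.choose 24 5 = 42504 by rfl] at this
  omega

lemma FrameLattice.good_and_odd : Good (code M) ∧
    ∃ y ∈ M, (∀ i, y i % 2 = 1) ∧ ∑ i, y i ^ 2 = 32 := by
  classical
  have hfin : {x | x ∈ M ∧ ∑ i, x i ^ 2 = 32}.Finite :=
    Set.finite_of_ncard_ne_zero (by rw [hM.count]; norm_num)
  obtain ⟨S, hS, hScard⟩ : ∃ S : Finset (Fin 24 → ℤ),
      (∀ x, x ∈ S ↔ x ∈ M ∧ ∑ i, x i ^ 2 = 32) ∧ S.card = 196560 :=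
    ⟨hfin.toFinset, fun x => hfin.mem_toFinset,
      by rw [← Set.ncard_eq_toFinset_card _ hfin, hM.count]⟩
  obtain ⟨O, hO⟩ : ∃ O, O = S.filter fun x => ∀ i, x i % 2 = 1 := ⟨_, rfl⟩
  obtain ⟨E, hE⟩ : ∃ E, E = S.filter fun x => ¬ ∀ i, x i % 2 = 1 := ⟨_, rfl⟩
  have hEev : ∀ x ∈ E, ∀ i, x i % 2 = 0 := by
    intro x hx i
    rw [hE, Finset.mem_filter] at hx
    obtain ⟨j, hj⟩ := not_forall.mp hx.2
    have := hM.parity x ((hS x).mp hx.1).1 i j
    omega
  -- the even vectors with zero digits
  have hE0 : (E.filter fun x => digitF x = 0).card ≤ 1104 := by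
    have hshape : ∀ x ∈ E.filter (fun x => digitF x = 0),
        (∀ i, x i = 0 ∨ x i = 4 ∨ x i = -4) ∧
          (Finset.univ.filter fun i => x i ≠ 0).card = 2 := by
      intro x hx
      rw [Finset.mem_filter] at hx
      have hn := ((hS x).mp (Finset.mem_filter.mp (hE ▸ hx.1)).1).2
      have h4 : ∀ i, x i % 4 = 0 := fun i => by
        have := hEev x hx.1 i
        have := (digitF_eq_zero x i).mp (congrFun hx.2 i)
        omega
      obtain ⟨u, hu⟩ : ∃ u : Fin 24 → ℤ, ∀ i, x i = 4 * u i :=
        ⟨fun i => x i / 4, fun i => by have := h4 i; show x i = 4 * (x i / 4); omega⟩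
      have h2 : ∑ i, u i ^ 2 = 2 := by
        have : ∑ i, x i ^ 2 = 16 * ∑ i, u i ^ 2 := by
          rw [Finset.mul_sum]
          exact Finset.sum_congr rfl fun i _ => by rw [hu i]; ring
        omega
      have hle : ∀ i, u i ^ 2 ≤ 2 := fun i =>
        h2 ▸ Finset.single_le_sum (fun j _ => sq_nonneg (u j)) (Finset.mem_univ i)
      have hu1 : ∀ i, u i = 0 ∨ u i = 1 ∨ u i = -1 := fun i => by
        have := hle i
        have : u i < 2 := by nlinarith
        have : -2 < u i := by nlinarith
        omega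
      refine ⟨fun i => ?_, ?_⟩
      · rcases hu1 i with h | h | h <;> rw [hu i, h] <;> norm_num
      · have hc : ((Finset.univ.filter fun i => x i ≠ 0).card : ℤ) = ∑ i, u i ^ 2 := by
          rw [Finset.card_filter]
          push_cast
          refine Finset.sum_congr rfl fun i _ => ?_
          rcases hu1 i with h | h | h <;> rw [hu i, h] <;> norm_num
        omega
    refine (Finset.card_le_mul_card_image (f := fun x : Fin 24 → ℤ =>
      Finset.univ.filter fun i => x i ≠ 0) _ 4 fun A hA => ?_).trans ?_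
    · obtain ⟨a, ha, rfl⟩ := Finset.mem_image.mp hA
      have h2 := (hshape a ha).2
      refine le_trans ?_ (le_of_eq (show (Finset.univ.filter fun i => a i ≠ 0).powerset.card = 4 by
        rw [Finset.card_powerset, h2]; rfl))
      refine Finset.card_le_card_of_injOn (fun x => Finset.univ.filter fun i => 0 < x i)
        (fun x hx => ?_) fun x hx y hy hxy => ?_
      · rw [Finset.mem_coe, Finset.mem_filter] at hx
        rw [Finset.mem_coe, Finset.mem_powerset]
        intro i hi
        rw [← hx.2]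
        rw [Finset.mem_filter] at hi ⊢
        exact ⟨hi.1, hi.2.ne'⟩
      · rw [Finset.mem_coe, Finset.mem_filter] at hx hy
        funext i
        have h1 := Finset.ext_iff.mp (hx.2.trans hy.2.symm) i
        have h3 := Finset.ext_iff.mp hxy i
        simp only [Finset.mem_filter, Finset.mem_univ, true_and] at h1 h3
        rcases (hshape x hx.1).1 i with h | h | h <;>
          rcases (hshape y hy.1).1 i with h' | h' | h' <;>
          first
            | exact h.trans h'.symm
            | exact h.trans h'.symm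
            | (exfalso; simp [h, h'] at h1 h3)
    · refine Nat.mul_le_mul_left 4 (le_trans (Finset.card_le_card
        (t := (Finset.univ : Finset (Fin 24)).powersetCard 2) fun A hA => ?_)
        (le_of_eq (by rw [Finset.card_powersetCard]; rfl : _ = 276)))
      obtain ⟨a, ha, rfl⟩ := Finset.mem_image.mp hA
      exact Finset.mem_powersetCard.mpr ⟨Finset.subset_univ _, (hshape a ha).2⟩
  -- the even vectors with a code word of weight eight
  have hE8 : (E.filter fun x => digitF x ≠ 0).card ≤ 128 * 759 := by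
    have hsh : ∀ x ∈ E.filter (fun x => digitF x ≠ 0), digitF x ∈ code M ∧
        hammingNorm (digitF x) = 8 ∧
        (∀ i, digitF x i = 0 → x i = 0) ∧ (∀ i, digitF x i ≠ 0 → x i = 2 ∨ x i = -2) := by
      intro x hx
      rw [Finset.mem_filter] at hx
      obtain ⟨hxM, hn⟩ := (hS x).mp (Finset.mem_filter.mp (hE ▸ hx.1)).1
      have hc : digitF x ∈ code M := mem_code.mpr ⟨x, hxM, hEev x hx.1, rfl⟩
      exact ⟨hc, eight_sparse (hEev x hx.1) hn (hM.code_min hc hx.2)⟩
    refine (Finset.card_le_mul_card_image (f := digitF) _ 128 fun w hw => ?_).trans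
      (Nat.mul_le_mul_left 128 (hM.octad_bound _ fun w hw => ?_))
    · obtain ⟨a, ha, rfl⟩ := Finset.mem_image.mp hw
      obtain ⟨i₀, hi₀⟩ : ∃ i, i ∈ support₂ (digitF a) := by
        rw [← Finset.Nonempty, ← Finset.card_pos, ← norm_eq, (hsh a ha).2.1]; norm_num
      refine le_trans ?_ (le_of_eq (show ((support₂ (digitF a)).erase i₀).powerset.card = 128 by
        rw [Finset.card_powerset, Finset.card_erase_of_mem hi₀, ← norm_eq, (hsh a ha).2.1]; rfl))
      refine Finset.card_le_card_of_injOn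
        (fun x => ((support₂ (digitF a)).erase i₀).filter fun i => 0 < x i)
        (fun x _ => Finset.mem_powerset.mpr (Finset.filter_subset _ _)) fun x hx y hy hxy => ?_
      rw [Finset.mem_coe, Finset.mem_filter] at hx hy
      obtain ⟨-, -, hx0, hx2⟩ := hsh x hx.1
      obtain ⟨-, -, hy0, hy2⟩ := hsh y hy.1
      have hagree : ∀ i, i ≠ i₀ → x i = y i := by
        intro i hi
        by_cases hz : digitF a i = 0
        · rw [hx0 i (by rw [hx.2]; exact hz), hy0 i (by rw [hy.2]; exact hz)]
        · have h3 := Finset.ext_iff.mp hxy i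
          simp only [Finset.mem_filter, Finset.mem_erase, support₂, Finset.mem_univ, true_and,
            ne_eq, hi, not_false_eq_true, hz] at h3
          rcases hx2 i (by rw [hx.2]; exact hz) with h | h <;>
            rcases hy2 i (by rw [hy.2]; exact hz) with h' | h' <;> rw [h, h'] <;>
            rw [h, h'] at h3 <;> norm_num at h3
      by_contra hne
      have hd := hM.min (x - y) (M.sub_mem
        ((hS x).mp (Finset.mem_filter.mp (hE ▸ (Finset.mem_filter.mp hx.1).1)).1).1
        ((hS y).mp (Finset.mem_filter.mp (hE ▸ (Finset.mem_filter.mp hy.1).1)).1).1)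
        (sub_ne_zero.mpr hne)
      rw [Finset.sum_eq_single i₀ (fun i _ hi => by simp [hagree i hi])
        (fun h => absurd (Finset.mem_univ _) h)] at hd
      have hz : digitF a i₀ ≠ 0 := (Finset.mem_filter.mp hi₀).2
      rcases hx2 i₀ (by rw [hx.2]; exact hz) with h | h <;>
        rcases hy2 i₀ (by rw [hy.2]; exact hz) with h' | h' <;>
        simp only [Pi.sub_apply, h, h'] at hd <;> norm_num at hd
    · obtain ⟨a, ha, rfl⟩ := Finset.mem_image.mp hw
      exact ⟨(hsh a ha).1, (hsh a ha).2.1⟩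
  have hSsplit : S.card = O.card + E.card := by
    rw [hO, hE, Finset.card_filter_add_card_filter_not]
  have hEsplit := Finset.card_filter_add_card_filter_not (s := E) (fun x => digitF x = 0)
  obtain ⟨y, hy⟩ : O.Nonempty := by
    rw [← Finset.card_pos]
    simp only [ne_eq] at hE8
    omega
  rw [hO, Finset.mem_filter] at hy
  obtain ⟨hyS, hyodd⟩ := hy
  obtain ⟨hyM, hyn⟩ := (hS y).mp hyS
  refine ⟨⟨?_, fun v hv w hw => hM.code_orth hv hw, fun w hw hne => hM.code_min hw hne⟩,
    y, hyM, hyodd, hyn⟩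
  -- the odd vectors
  have hOle : O.card ≤ 24 * Nat.card (code M) := by
    have hmem : ∀ x ∈ O, digitF (x - y) ∈ code M := by
      intro x hx
      rw [hO, Finset.mem_filter] at hx
      refine mem_code.mpr ⟨x - y, M.sub_mem ((hS x).mp hx.1).1 hyM, fun i => ?_, rfl⟩
      have := hx.2 i
      have := hyodd i
      simp only [Pi.sub_apply]
      omega
    have hex : ∀ x : O, ∃ i₀, (x : Fin 24 → ℤ) i₀ ^ 2 = 9 ∧
        ∀ j, j ≠ i₀ → (x : Fin 24 → ℤ) j ^ 2 = 1 := by
      rintro ⟨x, hx⟩
      rw [hO, Finset.mem_filter] at hx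
      exact sum_sq_eight hx.2 ((hS x).mp hx.1).2
    choose pos hpos using hex
    have hinj : Function.Injective
        (fun x : O => (pos x, (⟨digitF ((x : Fin 24 → ℤ) - y), hmem x x.2⟩ : code M))) := by
      intro x x' h
      simp only [Prod.mk.injEq, Subtype.mk.injEq] at h
      refine Subtype.ext (funext fun i => ?_)
      have hxo : (x : Fin 24 → ℤ) i % 2 = 1 := by
        have := x.2
        simp only [hO, Finset.mem_filter] at this
        exact this.2 i
      have hxo' : (x' : Fin 24 → ℤ) i % 2 = 1 := by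
        have := x'.2
        simp only [hO, Finset.mem_filter] at this
        exact this.2 i
      have hd := (digitF_eq_iff _ _ i).mp (congrFun h.2 i)
      simp only [Pi.sub_apply] at hd
      have hyi := hyodd i
      by_cases hi : i = pos x
      · have h1 := (hpos x).1
        have h2 := (hpos x').1
        rw [← h.1, ← hi] at h2
        rw [← hi] at h1
        rw [show (9 : ℤ) = 3 ^ 2 by norm_num, sq_eq_sq_iff_eq_or_eq_neg] at h1 h2
        omega
      · have h1 := (hpos x).2 i hi
        have h2 := (hpos x').2 i (h.1 ▸ hi)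
        rw [sq_eq_one_iff] at h1 h2
        omega
    have := Nat.card_le_card_of_injective _ hinj
    simpa [Nat.card_prod, Fintype.card_coe] using this
  have hpow : Nat.card (code M) = 2 ^ Module.finrank (ZMod 2) (code M) := by
    rw [Module.natCard_eq_pow_finrank (K := ZMod 2), Nat.card_zmod]
  have h12 := hM.finrank_le
  refine le_antisymm h12 (not_lt.mp fun hlt => ?_)
  have : Nat.card (code M) ≤ 2 ^ 11 := hpow ▸ Nat.pow_le_pow_right (by norm_num) (by omega)
  simp only [ne_eq] at hE8
  omega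

/-- Conway's recognition: a signed renaming of coordinates carries the lattice to the
Leech lattice. -/
theorem FrameLattice.exists_iso :
    ∃ T : (Fin 24 → ℤ) →+ (GolayPt → ℤ), Function.Injective T ∧
      (∀ x, sqNorm (T x) = ∑ i, x i ^ 2) ∧ M.map T = leechLattice := by
  classical
  obtain ⟨hG, y, hyM, hyodd, hyn⟩ := hM.good_and_odd
  obtain ⟨e, he⟩ := CfsgLib.Spor.Golay.exists_golay_equiv hG
  obtain ⟨i₀, hi₀, hrest⟩ := sum_sq_eight hyodd hyn
  obtain ⟨sg, hsg⟩ : ∃ sg : Fin 24 → ℤ, sg = fun i => if y i % 4 = 1 then 1 else -1 := ⟨_, rfl⟩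
  have hsg1 : ∀ i, sg i = 1 ∨ sg i = -1 := fun i => by simp only [hsg]; split_ifs <;> simp
  obtain ⟨T, hT⟩ : ∃ T : (Fin 24 → ℤ) →+ (GolayPt → ℤ),
      ∀ x p, T x p = sg (e.symm p) * x (e.symm p) :=
    ⟨{ toFun := fun x p => sg (e.symm p) * x (e.symm p)
       map_zero' := funext fun p => by simp
       map_add' := fun a b => funext fun p => by simp [mul_add] }, fun _ _ => rfl⟩
  have hTsum : ∀ a b, ∑ p, T a p * T b p = ∑ i, a i * b i := by
    intro a b
    rw [← Equiv.sum_comp e]
    refine Finset.sum_congr rfl fun i _ => ?_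
    rw [hT, hT, Equiv.symm_apply_apply]
    rcases hsg1 i with h | h <;> rw [h] <;> ring
  have hTinj : Function.Injective T := by
    intro a b h
    funext i
    have := congrFun h (e i)
    rw [hT, hT, Equiv.symm_apply_apply] at this
    rcases hsg1 i with h' | h' <;> rw [h'] at this <;> omega
  have hTnorm : ∀ x, sqNorm (T x) = ∑ i, x i ^ 2 := fun x => by
    simpa [sqNorm, sq] using hTsum x x
  refine ⟨T, hTinj, hTnorm, ?_⟩
  obtain ⟨y', hy'⟩ : ∃ y' : GolayPt → ℤ, y' = fun p => if p = e i₀ then -3 else 1 := ⟨_, rfl⟩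
  have hTy : T y = y' := by
    funext p
    rw [hT]
    simp only [hy', hsg]
    obtain ⟨i, rfl⟩ := e.surjective p
    simp only [Equiv.symm_apply_apply, EmbeddingLike.apply_eq_iff_eq]
    by_cases hi : i = i₀
    · subst hi
      rw [show (9 : ℤ) = 3 ^ 2 by norm_num, sq_eq_sq_iff_eq_or_eq_neg] at hi₀
      rcases hi₀ with h | h <;> simp [h]
    · rw [if_neg hi]
      rcases sq_eq_one_iff.mp (hrest i hi) with h | h <;> simp [h]
  have hy'L : y' ∈ leechLattice := by
    refine CfsgLib.Spor.Leech.mem_iff.mpr ⟨fun p => ?_, ?_, ?_⟩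
    · simp only [CfsgLib.Spor.Leech.par, hy']
      split_ifs <;> rfl
    · have : CfsgLib.Spor.Leech.digit y' = 0 := funext fun p => by
        simp only [CfsgLib.Spor.Leech.digit, hy', Pi.zero_apply,
          CfsgLib.Spor.Leech.zmod2_cast_eq_zero]
        split_ifs <;> rfl
      rw [this]
      exact zero_mem _
    · have hpar : CfsgLib.Spor.Leech.par y' = 1 := by
        simp only [CfsgLib.Spor.Leech.par, hy']
        split_ifs <;> rfl
      have hs : ∑ p, y' p = 20 := by
        have : ∀ p, y' p = 1 + (if p = e i₀ then (-4 : ℤ) else 0) := fun p => by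
          simp only [hy']; split_ifs <;> norm_num
        simp only [this, Finset.sum_add_distrib, Finset.sum_ite_eq', Finset.mem_univ, if_true,
          Finset.sum_const, Finset.card_univ]
        rw [Fintype.card_congr e.symm, Fintype.card_fin]
        rfl
      rw [hs, hpar]
      rfl
  have hdig : ∀ x : Fin 24 → ℤ, (∀ i, x i % 2 = 0) →
      CfsgLib.Spor.Leech.digit (T x) = fun p => digitF x (e.symm p) := by
    intro x hx
    funext p
    simp only [CfsgLib.Spor.Leech.digit, digitF, hT]
    rw [← sub_eq_zero, ← Int.cast_sub, CfsgLib.Spor.Leech.zmod2_cast_eq_zero]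
    have := hx (e.symm p)
    rcases hsg1 (e.symm p) with h | h <;> rw [h] <;> omega
  have heven : ∀ x ∈ M, (∀ i, x i % 2 = 0) → T x ∈ leechLattice := by
    intro x hx hx2
    have hpar : ∀ p, T x p % 2 = 0 := fun p => by
      have := hx2 (e.symm p)
      rw [hT]
      rcases hsg1 (e.symm p) with h | h <;> rw [h] <;> omega
    have hp0 : CfsgLib.Spor.Leech.par (T x) = 0 := hpar none
    refine CfsgLib.Spor.Leech.mem_iff.mpr ⟨fun p => by rw [hp0]; exact hpar p, ?_, ?_⟩
    · rw [hdig x hx2, he]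
      simp only [Equiv.symm_apply_apply]
      exact mem_code.mpr ⟨x, hx, hx2, rfl⟩
    · have hd : (8 : ℤ) ∣ ∑ p, T x p * y' p := by
        rw [← hTy, hTsum]
        exact hM.dot x hx y hyM
      have hexp : ∑ p, T x p * y' p = ∑ p, T x p + (-4) * T x (e i₀) := by
        have : ∀ p, T x p * y' p = T x p + (if p = e i₀ then (-4) * T x p else 0) := fun p => by
          simp only [hy']; split_ifs <;> ring
        simp [this, Finset.sum_add_distrib]
      rw [hexp] at hd
      have := hpar (e i₀)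
      rw [hp0]
      omega
  have hle : M.map T ≤ leechLattice := by
    rintro _ ⟨x, hx, rfl⟩
    by_cases hev : x i₀ % 2 = 0
    · exact heven x hx fun i => by rw [hM.parity x hx i i₀]; exact hev
    · have h := heven (x - y) (M.sub_mem hx hyM) fun i => by
        have := hM.parity x hx i i₀
        have := hyodd i
        simp only [Pi.sub_apply]
        omega
      rw [map_sub, hTy] at h
      simpa using leechLattice.add_mem h hy'L
  have hfour : ∀ p q, (Pi.single p (4 : ℤ) + Pi.single q 4 : GolayPt → ℤ) ∈ M.map T := by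
    intro p q
    refine ⟨fun i => sg i * (Pi.single p (4 : ℤ) + Pi.single q 4 : GolayPt → ℤ) (e i), ?_, ?_⟩
    · refine mem_of_four i₀ M hM.four (fun i => ?_) ?_
      · simp only [Pi.add_apply, Pi.single_apply]
        rcases hsg1 i with h | h <;> rw [h] <;> split_ifs <;> rfl
      · have h1 : ∀ i, sg i * (Pi.single p (4 : ℤ) + Pi.single q 4 : GolayPt → ℤ) (e i)
            = (if i = e.symm p then sg i * 4 else 0) + (if i = e.symm q then sg i * 4 else 0) := by
          intro i
          simp only [Pi.add_apply, Pi.single_apply, Equiv.eq_symm_apply, mul_add, mul_ite, mul_zero]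
        simp only [h1, Finset.sum_add_distrib, Finset.sum_ite_eq', Finset.mem_univ, if_true]
        rcases hsg1 (e.symm p) with h | h <;> rcases hsg1 (e.symm q) with h' | h' <;>
          rw [h, h'] <;> rfl
    · funext r
      rw [hT]
      simp only [Equiv.apply_symm_apply]
      rcases hsg1 (e.symm r) with h | h <;> rw [h] <;> ring
  have hfix : ∀ a ∈ M.map T, ∀ b ∈ leechLattice, (∀ p, (b p - a p) % 4 = 0) → b ∈ M.map T := by
    intro a ha b hb h4
    have hL := CfsgLib.Spor.Leech.mem_iff.mp (leechLattice.sub_mem hb (hle ha))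
    have hp0 : CfsgLib.Spor.Leech.par (b - a) = 0 := by
      have := h4 none
      simp only [CfsgLib.Spor.Leech.par, Pi.sub_apply]
      omega
    have h := mem_of_four (e i₀) (M.map T) hfour (x := b - a) (fun p => h4 p) (by
      have := hL.2.2
      rw [hp0] at this
      simpa using this)
    simpa using (M.map T).add_mem h ha
  refine le_antisymm hle (CfsgLib.Spor.Leech.leech_le ?_ (fun r hr => ?_) hfour)
  · refine hfix y' ⟨y, hyM, hTy⟩ _ CfsgLib.Spor.Leech.oddVec_mem fun p => ?_
    simp only [hy', CfsgLib.Spor.Leech.oddVec]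
    split_ifs <;> rfl
  · have hw := he _ |>.mp (CfsgLib.Spor.word_row_mem hr)
    obtain ⟨x, hx, hx2, hxd⟩ := mem_code.mp hw
    refine hfix (T x) ⟨x, hx, rfl⟩ _
      (CfsgLib.Spor.Leech.twoVec_mem (CfsgLib.Spor.word_row_mem hr)) fun p => ?_
    have h1 := congrFun (hdig x hx2) p
    rw [hxd] at h1
    simp only [Equiv.apply_symm_apply] at h1
    rw [← CfsgLib.Spor.Leech.digit_twoVec] at h1
    have h2 : (T x p / 2 - CfsgLib.Spor.Leech.twoVec r p / 2) % 2 = 0 := by
      rw [← CfsgLib.Spor.Leech.zmod2_cast_eq_zero, Int.cast_sub, sub_eq_zero]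
      exact h1
    have h3 : CfsgLib.Spor.Leech.twoVec r p % 2 = 0 := by
      simp only [CfsgLib.Spor.Leech.twoVec]; split_ifs <;> rfl
    have h4 : T x p % 2 = 0 := by
      have := hx2 (e.symm p)
      rw [hT]
      rcases hsg1 (e.symm p) with h | h <;> rw [h] <;> omega
    omega

end CfsgLib.ThetaLattice
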