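import Mathlib.Analysis.SpecialFunctions.Gaussian.PoissonSummation
import Mathlib.Analysis.SpecialFunctions.Complex.Log
import Mathlib.LinearAlgebra.Matrix.NonsingularInverse
import Mathlib.Data.Matrix.Mul

/-!
# The transformation formula of multi-dimensional Gaussian sums

`exists_gauss_transform`: for a positive definite symmetric real matrix `Q` with inverse `R`
the sum of `exp (-π a Q(x) + 2 π i u·x)` over `ℤ^n` is a positive multiple of
`a ^ (-n/2)` times the sum of `exp (-π a⁻¹ R(y + u))`. By induction on `n` from the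
one-dimensional Poisson summation formula.
-/

open Matrix Real Complex

noncomputable section

namespace CfsgLib.ThetaLattice

/-- The quadratic form of a real matrix. -/
def qf {n : ℕ} (Q : Matrix (Fin n) (Fin n) ℝ) (x : Fin n → ℝ) : ℝ := x ⬝ᵥ (Q *ᵥ x)

/-- An integral vector as a real vector. -/
def toR {n : ℕ} (x : Fin n → ℤ) : Fin n → ℝ := fun i => (x i : ℝ)

@[simp] lemma toR_apply {n : ℕ} (x : Fin n → ℤ) (i : Fin n) : toR x i = (x i : ℝ) := rfl

lemma qf_zero {n : ℕ} (Q : Matrix (Fin n) (Fin n) ℝ) : qf Q 0 = 0 := by simp [qf]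

lemma qf_smul {n : ℕ} (Q : Matrix (Fin n) (Fin n) ℝ) (c : ℝ) (x : Fin n → ℝ) :
    qf Q (c • x) = c ^ 2 * qf Q x := by
  simp only [qf, mulVec_smul, dotProduct_smul, smul_dotProduct, smul_eq_mul]
  ring

lemma qf_lower {n : ℕ} (Q : Matrix (Fin n) (Fin n) ℝ) (hp : ∀ x, x ≠ 0 → 0 < qf Q x) :
    ∃ δ : ℝ, 0 < δ ∧ ∀ x, δ * ∑ i, x i ^ 2 ≤ qf Q x := by
  rcases Nat.eq_zero_or_pos n with rfl | hn
  · exact ⟨1, one_pos, fun x => by simp [qf, dotProduct]⟩
  have hc : Continuous fun x : Fin n → ℝ => qf Q x := by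
    unfold qf dotProduct Matrix.mulVec dotProduct
    fun_prop
  have hK : IsCompact {x : Fin n → ℝ | ∑ i, x i ^ 2 = 1} := by
    refine IsCompact.of_isClosed_subset (isCompact_closedBall (0 : Fin n → ℝ) 1)
      (isClosed_eq (by fun_prop) continuous_const) ?_
    intro x hx
    rw [Metric.mem_closedBall, dist_zero_right, pi_norm_le_iff_of_nonneg zero_le_one]
    intro i
    have : x i ^ 2 ≤ 1 := (Finset.single_le_sum (fun j _ => sq_nonneg (x j))
      (Finset.mem_univ i)).trans_eq hx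
    rw [Real.norm_eq_abs]
    exact (sq_le_one_iff_abs_le_one _).mp this
  have hne : {x : Fin n → ℝ | ∑ i, x i ^ 2 = 1}.Nonempty :=
    ⟨Pi.single ⟨0, hn⟩ 1, by
      simp [Pi.single_apply, ite_pow, Finset.sum_ite_eq']⟩
  obtain ⟨m, hm, hmin⟩ := hK.exists_isMinOn hne hc.continuousOn
  refine ⟨qf Q m, hp m ?_, fun x => ?_⟩
  · rintro rfl
    simp at hm
  · rcases eq_or_lt_of_le (Finset.sum_nonneg fun i _ => sq_nonneg (x i)) with h | h
    · have hx : x = 0 := by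
        funext i
        have := (Finset.sum_eq_zero_iff_of_nonneg fun j _ => sq_nonneg (x j)).mp h.symm i
          (Finset.mem_univ i)
        simpa using this
      simp [hx, qf_zero]
    · obtain ⟨s, hs⟩ : ∃ s : ℝ, s = (Real.sqrt (∑ i, x i ^ 2))⁻¹ := ⟨_, rfl⟩
      have hss : s ^ 2 * ∑ i, x i ^ 2 = 1 := by
        rw [hs, inv_pow, Real.sq_sqrt h.le, inv_mul_cancel₀ h.ne']
      have hmem : s • x ∈ {y : Fin n → ℝ | ∑ i, y i ^ 2 = 1} := by
        simp only [Set.mem_setOf_eq, Pi.smul_apply, smul_eq_mul, mul_pow, ← Finset.mul_sum, hss]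
      have h2 : qf Q m ≤ s ^ 2 * qf Q x := qf_smul Q s x ▸ hmin hmem
      calc qf Q m * ∑ i, x i ^ 2 ≤ s ^ 2 * qf Q x * ∑ i, x i ^ 2 :=
            mul_le_mul_of_nonneg_right h2 h.le
        _ = qf Q x := by rw [mul_comm (s ^ 2), mul_assoc, hss, mul_one]

lemma summable_exp_neg_sq {c : ℝ} (hc : 0 < c) :
    Summable fun n : ℤ => Real.exp (-(c * (n : ℝ) ^ 2)) := by
  have hN : Summable fun n : ℕ => Real.exp (-(c * (n : ℝ) ^ 2)) := by
    refine Summable.of_nonneg_of_le (fun n => (Real.exp_pos _).le) (fun n => ?_)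
      (Real.summable_exp_nat_mul_iff.mpr (neg_lt_zero.mpr hc))
    have : (n : ℝ) ≤ (n : ℝ) ^ 2 := by exact_mod_cast Nat.le_self_pow two_ne_zero n
    exact Real.exp_le_exp.mpr (by nlinarith)
  refine Summable.of_nat_of_neg ?_ ?_
  · simpa using hN
  · simpa using hN

lemma summable_exp_neg_shift_sq {c : ℝ} (hc : 0 < c) (u : ℝ) :
    Summable fun n : ℤ => Real.exp (-(c * ((n : ℝ) + u) ^ 2)) := by
  refine Summable.of_nonneg_of_le (fun n => (Real.exp_pos _).le) (fun n => ?_)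
    ((summable_exp_neg_sq (half_pos hc)).mul_left (Real.exp (c * u ^ 2)))
  rw [← Real.exp_add]
  refine Real.exp_le_exp.mpr ?_
  nlinarith [mul_nonneg hc.le (sq_nonneg ((n : ℝ) + 2 * u))]

lemma summable_pi_prod {n : ℕ} (f : Fin n → ℤ → ℝ) (h0 : ∀ i k, 0 ≤ f i k)
    (hs : ∀ i, Summable (f i)) : Summable fun x : Fin n → ℤ => ∏ i, f i (x i) := by
  induction n with
  | zero => exact Summable.of_finite
  | succ n ih =>
    have h1 := ih (fun i => f i.succ) (fun i k => h0 i.succ k) (fun i => hs i.succ)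
    have h2 := (hs 0).mul_of_nonneg h1 (h0 0)
      (fun x => Finset.prod_nonneg fun i _ => h0 i.succ (x i))
    refine ((Fin.consEquiv fun _ : Fin (n + 1) => ℤ).summable_iff).mp ?_
    simpa [Function.comp_def, Fin.prod_univ_succ] using h2

lemma summable_qf_real {n : ℕ} (Q : Matrix (Fin n) (Fin n) ℝ) (hp : ∀ x, x ≠ 0 → 0 < qf Q x)
    {c : ℝ} (hc : 0 < c) (u : Fin n → ℝ) :
    Summable fun x : Fin n → ℤ => Real.exp (-(c * qf Q (toR x + u))) := by
  obtain ⟨δ, hδ, hb⟩ := qf_lower Q hp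
  refine Summable.of_nonneg_of_le (fun n => (Real.exp_pos _).le) (fun x => ?_)
    (summable_pi_prod (fun i (k : ℤ) => Real.exp (-(c * δ * ((k : ℝ) + u i) ^ 2)))
      (fun i k => (Real.exp_pos _).le) fun i => summable_exp_neg_shift_sq (mul_pos hc hδ) (u i))
  rw [← Real.exp_sum]
  refine Real.exp_le_exp.mpr ?_
  rw [Finset.sum_neg_distrib, neg_le_neg_iff, ← Finset.mul_sum, mul_assoc]
  refine mul_le_mul_of_nonneg_left ?_ hc.le
  simpa using hb (toR x + u)

lemma summable_gauss {n : ℕ} (Q : Matrix (Fin n) (Fin n) ℝ) (hp : ∀ x, x ≠ 0 → 0 < qf Q x)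
    {a : ℂ} (ha : 0 < a.re) (u : Fin n → ℝ) :
    Summable fun x : Fin n → ℤ =>
      cexp (-π * a * qf Q (toR x) + 2 * π * I * ((u ⬝ᵥ toR x : ℝ) : ℂ)) := by
  refine Summable.of_norm ((summable_qf_real Q hp (mul_pos Real.pi_pos ha) 0).congr fun x => ?_)
  rw [Complex.norm_exp]
  simp [mul_assoc, add_zero]

lemma summable_gauss_shift {n : ℕ} (Q : Matrix (Fin n) (Fin n) ℝ)
    (hp : ∀ x, x ≠ 0 → 0 < qf Q x) {a : ℂ} (ha : 0 < a.re) (u : Fin n → ℝ) :
    Summable fun x : Fin n → ℤ => cexp (-π * a * qf Q (toR x + u)) := by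
  refine Summable.of_norm ((summable_qf_real Q hp (mul_pos Real.pi_pos ha) u).congr fun x => ?_)
  rw [Complex.norm_exp]
  simp [mul_assoc]

lemma inv_re_pos {a : ℂ} (ha : 0 < a.re) : 0 < a⁻¹.re := by
  rw [Complex.inv_re]
  exact div_pos ha (Complex.normSq_pos.mpr fun h => by simp [h] at ha)

lemma toR_cons {n : ℕ} (k : ℤ) (x : Fin n → ℤ) :
    toR (Fin.cons k x) = Fin.cons (k : ℝ) (toR x) := by
  funext i
  refine Fin.cases ?_ ?_ i <;> simp

lemma isUnit_det_of_pos {n : ℕ} (Q : Matrix (Fin n) (Fin n) ℝ)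
    (hp : ∀ x, x ≠ 0 → 0 < qf Q x) : IsUnit Q.det := by
  rw [← Matrix.isUnit_iff_isUnit_det, ← Matrix.mulVec_injective_iff_isUnit]
  intro x y h
  by_contra hne
  have hq := hp (x - y) (sub_ne_zero.mpr hne)
  simp [qf, mulVec_sub, show Q *ᵥ x = Q *ᵥ y from h] at hq

lemma qf_inv_pos {n : ℕ} {Q R : Matrix (Fin n) (Fin n) ℝ}
    (hp : ∀ x, x ≠ 0 → 0 < qf Q x) (hR : R * Q = 1) : ∀ w, w ≠ 0 → 0 < qf R w := by
  intro w hw
  have hQR : Q * R = 1 := mul_eq_one_comm.mp hR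
  have hv : Q *ᵥ (R *ᵥ w) = w := by rw [mulVec_mulVec, hQR, one_mulVec]
  have hne : R *ᵥ w ≠ 0 := fun h => hw (by rw [← hv, h, mulVec_zero])
  have := hp _ hne
  simp only [qf, hv] at this ⊢
  rwa [dotProduct_comm]

section step

variable {n : ℕ} (Q : Matrix (Fin (n + 1)) (Fin (n + 1)) ℝ)

/-- The first row of the matrix after its corner. -/
def row0 : Fin n → ℝ := fun j => Q 0 j.succ

/-- The Schur complement of the corner. -/
def schur : Matrix (Fin n) (Fin n) ℝ :=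
  fun i j => Q i.succ j.succ - row0 Q i * row0 Q j / Q 0 0

lemma qf_schur (x : Fin n → ℝ) :
    qf (schur Q) x = qf (fun i j => Q (Fin.succ i) (Fin.succ j)) x
      - (row0 Q ⬝ᵥ x) ^ 2 / Q 0 0 := by
  simp only [qf, schur, dotProduct, mulVec, sub_mul, mul_sub, Finset.sum_sub_distrib,
    Finset.mul_sum]
  rw [sq, Finset.sum_mul_sum, Finset.sum_div]
  congr 1
  refine Finset.sum_congr rfl fun i _ => ?_
  rw [Finset.sum_div]
  exact Finset.sum_congr rfl fun j _ => by ring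

lemma qf_cons (hs : Q.IsSymm) (x0 : ℝ) (x : Fin n → ℝ) :
    qf Q (Fin.cons x0 x) = Q 0 0 * x0 ^ 2 + 2 * x0 * (row0 Q ⬝ᵥ x)
      + qf (fun i j => Q (Fin.succ i) (Fin.succ j)) x := by
  simp only [qf, row0, dotProduct, mulVec, Fin.sum_univ_succ, Fin.cons_zero, Fin.cons_succ,
    mul_add, Finset.mul_sum, Finset.sum_add_distrib]
  have : ∀ i : Fin n, Q i.succ 0 = Q 0 i.succ := fun i => hs.apply 0 i.succ
  simp only [this]
  rw [show Q 0 0 * x0 ^ 2 = x0 * (Q 0 0 * x0) from by ring,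
    Finset.sum_congr rfl (fun (i : Fin n) _ =>
      show x i * (Q 0 i.succ * x0) = x0 * (Q 0 i.succ * x i) from by ring),
    show ∑ i, 2 * x0 * (Q 0 i.succ * x i) = 2 * ∑ i, x0 * (Q 0 i.succ * x i) from by
      rw [Finset.mul_sum]; exact Finset.sum_congr rfl fun i _ => by ring]
  ring

lemma corner_pos (hp : ∀ x, x ≠ 0 → 0 < qf Q x) : 0 < Q 0 0 := by
  have h := hp (Pi.single 0 1) (by simp)
  simpa [qf] using h

lemma schur_pos (hs : Q.IsSymm) (hp : ∀ x, x ≠ 0 → 0 < qf Q x) :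
    ∀ x, x ≠ 0 → 0 < qf (schur Q) x := by
  intro x hx
  have h0 := corner_pos Q hp
  have hne : (Fin.cons (-(row0 Q ⬝ᵥ x) / Q 0 0) x : Fin (n + 1) → ℝ) ≠ 0 := by
    intro h
    exact hx (funext fun i => by simpa using congrFun h i.succ)
  have h := hp _ hne
  rw [qf_cons Q hs] at h
  rw [qf_schur]
  field_simp at h ⊢
  nlinarith

lemma schur_symm (hs : Q.IsSymm) : (schur Q).IsSymm := by
  refine IsSymm.ext fun i j => ?_
  simp only [schur, hs.apply i.succ j.succ]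
  ring

lemma qf_inverse_cons (hs : Q.IsSymm) (hp : ∀ x, x ≠ 0 → 0 < qf Q x)
    {R : Matrix (Fin (n + 1)) (Fin (n + 1)) ℝ} (hR : R * Q = 1)
    {S' : Matrix (Fin n) (Fin n) ℝ} (hS : S' * schur Q = 1) (w : Fin (n + 1) → ℝ) :
    qf R w = w 0 ^ 2 / Q 0 0 + qf S' (Fin.tail w - (w 0 / Q 0 0) • row0 Q) := by
  have h0 := corner_pos Q hp
  obtain ⟨v, hv⟩ : ∃ v, v = R *ᵥ w := ⟨_, rfl⟩
  have hw : w = Q *ᵥ v := by
    rw [hv, mulVec_mulVec, mul_eq_one_comm.mp hR, one_mulVec]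
  have hsym : ∀ i : Fin n, Q i.succ 0 = Q 0 i.succ := fun i => hs.apply 0 i.succ
  have hw0 : w 0 = Q 0 0 * v 0 + row0 Q ⬝ᵥ Fin.tail v := by
    rw [hw]
    simp [mulVec, dotProduct, row0, Fin.tail, Fin.sum_univ_succ]
  have hS1 : Fin.tail w - (w 0 / Q 0 0) • row0 Q = schur Q *ᵥ Fin.tail v := by
    funext i
    have hwi : w i.succ = Q 0 i.succ * v 0 + ∑ j : Fin n, Q i.succ j.succ * v j.succ := by
      rw [hw]
      simp [mulVec, dotProduct, Fin.sum_univ_succ, hsym]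
    have he : (schur Q *ᵥ Fin.tail v) i
        = (∑ j : Fin n, Q i.succ j.succ * v j.succ)
          - row0 Q i * (row0 Q ⬝ᵥ Fin.tail v) / Q 0 0 := by
      simp only [mulVec, dotProduct, schur, Fin.tail, sub_mul, Finset.sum_sub_distrib,
        Finset.mul_sum, Finset.sum_div]
      congr 1
      exact Finset.sum_congr rfl fun j _ => by ring
    rw [he]
    simp only [Pi.sub_apply, Pi.smul_apply, smul_eq_mul, Fin.tail, row0, hwi, hw0]
    field_simp
    ring
  have hS2 : qf S' (schur Q *ᵥ Fin.tail v) = qf (schur Q) (Fin.tail v) := by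
    simp only [qf, mulVec_mulVec, hS, one_mulVec]
    exact dotProduct_comm _ _
  rw [hS1, hS2, qf_schur]
  have hR' : qf R w = qf Q v := by
    simp only [qf, ← hv, ← hw]
    exact dotProduct_comm _ _
  rw [hR', hw0]
  conv_lhs => rw [← Fin.cons_self_tail v]
  rw [qf_cons Q hs]
  field_simp
  ring

end step

lemma cpow_half_real_mul {r : ℝ} (hr : 0 < r) {a : ℂ} (ha : a ≠ 0) :
    (a * r) ^ (1 / 2 : ℂ) = (Real.sqrt r : ℂ) * a ^ (1 / 2 : ℂ) := by
  have hra : a * r ≠ 0 := mul_ne_zero ha (Complex.ofReal_ne_zero.mpr hr.ne')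
  rw [Complex.cpow_def_of_ne_zero hra, Complex.cpow_def_of_ne_zero ha, mul_comm a,
    Complex.log_ofReal_mul hr ha, add_mul, Complex.exp_add, Real.sqrt_eq_rpow,
    Complex.ofReal_cpow hr.le, Complex.cpow_def_of_ne_zero (Complex.ofReal_ne_zero.mpr hr.ne'),
    Complex.ofReal_log hr.le]
  norm_num

theorem exists_gauss_transform : ∀ (n : ℕ) (Q : Matrix (Fin n) (Fin n) ℝ), Q.IsSymm →
    (∀ x, x ≠ 0 → 0 < qf Q x) →
    ∃ r : ℝ, 0 < r ∧ ∀ R : Matrix (Fin n) (Fin n) ℝ, R * Q = 1 →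
      ∀ (a : ℂ), 0 < a.re → ∀ u : Fin n → ℝ,
        ∑' x : Fin n → ℤ, cexp (-π * a * qf Q (toR x) + 2 * π * I * ((u ⬝ᵥ toR x : ℝ) : ℂ))
          = (r : ℂ) / (a ^ (1 / 2 : ℂ)) ^ n
            * ∑' y : Fin n → ℤ, cexp (-π * a⁻¹ * qf R (toR y + u)) := by
  intro n
  induction n with
  | zero =>
    intro Q _ _
    refine ⟨1, one_pos, fun R _ a _ u => ?_⟩
    simp [qf, dotProduct]
  | succ n ih =>
    intro Q hs hp
    have hS := schur_pos Q hs hp
    obtain ⟨r, hr, hih⟩ := ih (schur Q) (schur_symm Q hs) hS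
    have h0 := corner_pos Q hp
    refine ⟨r / Real.sqrt (Q 0 0), div_pos hr (Real.sqrt_pos.mpr h0), fun R hR a ha u => ?_⟩
    have hSinv : (schur Q)⁻¹ * schur Q = 1 := nonsing_inv_mul _ (isUnit_det_of_pos _ hS)
    have hane : a ≠ 0 := fun h => by simp [h] at ha
    obtain ⟨G, hG⟩ : ∃ G : ℤ → (Fin n → ℤ) → ℂ, G = fun (k : ℤ) (x : Fin n → ℤ) =>
        cexp (-π * a⁻¹ * (((k : ℝ) + u 0) ^ 2 / Q 0 0 : ℝ)) *
          cexp (-π * a * qf (schur Q) (toR x) + 2 * π * I *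
            (((Fin.tail u - (((k : ℝ) + u 0) / Q 0 0) • row0 Q) ⬝ᵥ toR x : ℝ) : ℂ)) :=
      ⟨_, rfl⟩
    have hT := ((Fin.consEquiv fun _ : Fin (n + 1) => ℤ).summable_iff).mpr
      (summable_gauss Q hp ha u)
    have hU := ((Fin.consEquiv fun _ : Fin (n + 1) => ℤ).summable_iff).mpr
      (summable_gauss_shift R (qf_inv_pos hp hR) (inv_re_pos ha) u)
    have hGs : Summable (Function.uncurry G) := by
      refine Summable.of_norm ?_
      have h1 : Summable fun k : ℤ =>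
          Real.exp (-(π * a⁻¹.re / Q 0 0 * ((k : ℝ) + u 0) ^ 2)) :=
        summable_exp_neg_shift_sq (div_pos (mul_pos Real.pi_pos (inv_re_pos ha)) h0) _
      have h2 := summable_qf_real (schur Q) hS (mul_pos Real.pi_pos ha) 0
      refine (h1.mul_of_nonneg h2 (fun _ => (Real.exp_pos _).le)
        (fun _ => (Real.exp_pos _).le)).congr fun p => ?_
      simp only [hG, Function.uncurry, norm_mul, Complex.norm_exp, add_zero]
      congr 2
      · simp only [Complex.mul_re, Complex.neg_re, Complex.neg_im, Complex.ofReal_re,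
          Complex.ofReal_im, mul_zero, sub_zero, neg_zero, zero_mul]
        ring
      · simp [mul_assoc]
    have hone : ∀ x : Fin n → ℤ,
        (∑' k : ℤ, cexp (-π * a * qf Q (toR (Fin.cons k x)) +
            2 * π * I * ((u ⬝ᵥ toR (Fin.cons k x) : ℝ) : ℂ)))
          = 1 / ((a * Q 0 0) ^ (1 / 2 : ℂ)) * ∑' k : ℤ, G k x := by
      intro x
      have hA : 0 < (a * Q 0 0).re := by simpa using mul_pos ha h0
      have key := Complex.tsum_exp_neg_quadratic hA
        (-a * ((row0 Q ⬝ᵥ toR x : ℝ) : ℂ) + I * (u 0 : ℂ))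
      obtain ⟨E, hE⟩ : ∃ E : ℂ, E = cexp (-π * a *
          (qf (fun i j => Q (Fin.succ i) (Fin.succ j)) (toR x) : ℂ)
          + 2 * π * I * ((Fin.tail u ⬝ᵥ toR x : ℝ) : ℂ)) := ⟨_, rfl⟩
      have hl : ∀ k : ℤ, cexp (-π * a * qf Q (toR (Fin.cons k x)) +
            2 * π * I * ((u ⬝ᵥ toR (Fin.cons k x) : ℝ) : ℂ))
          = cexp (-π * (a * Q 0 0) * (k : ℂ) ^ 2 + 2 * π *
              (-a * ((row0 Q ⬝ᵥ toR x : ℝ) : ℂ) + I * (u 0 : ℂ)) * k) * E := by
        intro k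
        have hd : u ⬝ᵥ toR (Fin.cons k x) = u 0 * k + Fin.tail u ⬝ᵥ toR x := by
          simp [dotProduct, Fin.sum_univ_succ, Fin.tail]
        rw [hE, ← Complex.exp_add, hd, toR_cons, qf_cons Q hs]
        congr 1
        push_cast
        ring
      rw [tsum_congr hl, tsum_mul_right, key, ← (Equiv.neg ℤ).tsum_eq (fun k => cexp _),
        mul_assoc, ← tsum_mul_right]
      congr 1
      refine tsum_congr fun k => ?_
      rw [hE, hG, ← Complex.exp_add]
      simp only [← Complex.exp_add]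
      congr 1
      rw [qf_schur]
      simp only [Equiv.neg_apply, sub_dotProduct, smul_dotProduct, smul_eq_mul]
      push_cast
      have hqc : (Q 0 0 : ℂ) ≠ 0 := Complex.ofReal_ne_zero.mpr h0.ne'
      field_simp
      ring_nf
      simp only [I_sq, I_pow_three, I_pow_four]
      ring
    have hK : 1 / ((a * Q 0 0) ^ (1 / 2 : ℂ)) * ((r : ℂ) / (a ^ (1 / 2 : ℂ)) ^ n)
        = ((r / Real.sqrt (Q 0 0) : ℝ) : ℂ) / (a ^ (1 / 2 : ℂ)) ^ (n + 1) := by
      rw [cpow_half_real_mul h0 hane]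
      have h1 : (Real.sqrt (Q 0 0) : ℂ) ≠ 0 :=
        Complex.ofReal_ne_zero.mpr (Real.sqrt_pos.mpr h0).ne'
      have h2 : a ^ (1 / 2 : ℂ) ≠ 0 := by simp [Complex.cpow_eq_zero_iff, hane]
      push_cast
      field_simp
      ring
    rw [← hK, ← (Fin.consEquiv fun _ : Fin (n + 1) => ℤ).tsum_eq,
      ← (Fin.consEquiv fun _ : Fin (n + 1) => ℤ).tsum_eq (fun y => cexp (-π * a⁻¹ * _))]
    have hsw : ∑' p : ℤ × (Fin n → ℤ), cexp (-π * a * qf Q (toR (Fin.cons p.1 p.2)) +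
            2 * π * I * ((u ⬝ᵥ toR (Fin.cons p.1 p.2) : ℝ) : ℂ))
        = ∑' (x : Fin n → ℤ) (k : ℤ), cexp (-π * a * qf Q (toR (Fin.cons k x)) +
            2 * π * I * ((u ⬝ᵥ toR (Fin.cons k x) : ℝ) : ℂ)) := by
      rw [← (Equiv.prodComm (Fin n → ℤ) ℤ).tsum_eq]
      exact ((Equiv.prodComm (Fin n → ℤ) ℤ).summable_iff.mpr hT).tsum_prod
    refine Eq.trans hsw ?_
    rw [tsum_congr hone, tsum_mul_left, hGs.tsum_comm, mul_assoc]
    congr 1
    refine Eq.trans ?_ (congrArg _ hU.tsum_prod.symm)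
    rw [← tsum_mul_left]
    refine tsum_congr fun k => ?_
    simp only [hG]
    rw [tsum_mul_left, hih _ hSinv a ha, ← mul_assoc, mul_comm (cexp _), mul_assoc]
    congr 1
    rw [← tsum_mul_left]
    refine tsum_congr fun y => ?_
    simp only [Function.comp_apply, Fin.consEquiv_apply, ← Complex.exp_add]
    congr 1
    rw [qf_inverse_cons Q hs hp hR hSinv]
    have ht : Fin.tail (toR (Fin.cons k y) + u) - ((toR (Fin.cons k y) + u) 0 / Q 0 0) • row0 Q
        = toR y + (Fin.tail u - (((k : ℝ) + u 0) / Q 0 0) • row0 Q) := by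
      funext i
      simp [Fin.tail]
      ring
    have hc : ((Fin.consEquiv fun _ : Fin (n + 1) => ℤ) (k, y)) = Fin.cons k y := rfl
    rw [hc, ht]
    simp only [Pi.add_apply, toR_cons, Fin.cons_zero]
    push_cast
    ring

end CfsgLib.ThetaLattice
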