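import Cfsg.Agent.Lib.ThetaLattice.Gaussian
import Mathlib.Analysis.Complex.LocallyUniformLimit
import Mathlib.NumberTheory.ModularForms.LevelOne.DimensionFormula
import Mathlib.LinearAlgebra.Matrix.Adjugate

/-!
# The theta series of an even unimodular lattice of rank 24

`thetaForm` is a modular form of weight 12 and level one whose `q`-expansion counts the
vectors of each norm; `count_four_six_eight` deduces the counts of a rootless lattice.
-/

open Matrix Real Complex ModularForm MatrixGroups EisensteinSeries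
open UpperHalfPlane hiding I
open SlashInvariantForm
open scoped Topology

noncomputable section

namespace CfsgLib.ThetaLattice

/-- An integral lattice of rank 24, given by a Gram matrix: even, positive, unimodular. -/
structure Gram where
  B : Matrix (Fin 24) (Fin 24) ℤ
  symm : B.IsSymm
  pos : ∀ x : Fin 24 → ℤ, x ≠ 0 → 0 < x ⬝ᵥ (B *ᵥ x)
  realPos : ∀ x : Fin 24 → ℝ, x ≠ 0 → 0 < qf (B.map (Int.cast : ℤ → ℝ)) x
  even : ∀ x : Fin 24 → ℤ, (2 : ℤ) ∣ x ⬝ᵥ (B *ᵥ x)
  det_one : B.det = 1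

/-- A positive definite integral form with non-zero determinant is real positive definite. -/
lemma realPos_of_intPos {n : ℕ} (B : Matrix (Fin n) (Fin n) ℤ) (hs : B.IsSymm)
    (hp : ∀ x : Fin n → ℤ, x ≠ 0 → 0 < x ⬝ᵥ (B *ᵥ x)) (hd : B.det ≠ 0) :
    ∀ x : Fin n → ℝ, x ≠ 0 → 0 < qf (B.map (Int.cast : ℤ → ℝ)) x := by
  obtain ⟨M, hM⟩ : ∃ M : Matrix (Fin n) (Fin n) ℝ, M = B.map (Int.cast : ℤ → ℝ) := ⟨_, rfl⟩
  rw [← hM]
  have hint : ∀ x : Fin n → ℤ, 0 ≤ qf M (toR x) := by
    intro x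
    have h : (0 : ℤ) ≤ x ⬝ᵥ (B *ᵥ x) := by
      by_cases hx : x = 0
      · simp [hx]
      · exact (hp x hx).le
    have h' : (0 : ℝ) ≤ ((x ⬝ᵥ (B *ᵥ x) : ℤ) : ℝ) := by exact_mod_cast h
    simpa [qf, hM, dotProduct, mulVec] using h'
  have hnn : ∀ x : Fin n → ℝ, 0 ≤ qf M x := by
    intro x
    have hd' : DenseRange (Pi.map fun (_ : Fin n) => ((↑) : ℚ → ℝ)) :=
      DenseRange.piMap fun _ => Rat.denseRange_cast
    refine hd'.induction_on x (isClosed_le continuous_const ?_) fun v => ?_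
    · unfold qf dotProduct Matrix.mulVec dotProduct
      fun_prop
    · obtain ⟨D, hD⟩ : ∃ D : ℕ, D = ∏ i, (v i).den := ⟨_, rfl⟩
      have hD0 : (0 : ℝ) < D := by
        rw [hD]; exact_mod_cast Finset.prod_pos fun i _ => (v i).pos
      have hk : ∀ i, ∃ k : ℤ, (k : ℝ) = (D : ℝ) * (v i : ℝ) := by
        intro i
        obtain ⟨c, hc⟩ : (v i).den ∣ D := hD ▸ Finset.dvd_prod_of_mem _ (Finset.mem_univ i)
        refine ⟨(c : ℤ) * (v i).num, ?_⟩
        have h2 : ((v i : ℝ)) * ((v i).den : ℝ) = ((v i).num : ℝ) := by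
          exact_mod_cast Rat.mul_den_eq_num (v i)
        rw [hc]
        push_cast
        rw [← h2]
        ring
      choose k hk using hk
      have he : toR k = (D : ℝ) • Pi.map (fun (_ : Fin n) => ((↑) : ℚ → ℝ)) v := by
        funext i
        simpa [Pi.map] using hk i
      have h1 := hint k
      rw [he, qf_smul] at h1
      exact nonneg_of_mul_nonneg_right (by simpa [mul_comm] using h1) (pow_pos hD0 2)
  intro x hx
  refine lt_of_le_of_ne (hnn x) fun h0 => hx ?_
  have hMs : M.IsSymm := by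
    refine IsSymm.ext fun i j => ?_
    simp [hM, hs.apply i j]
  have hexp : ∀ t : ℝ, qf M (x + t • (M *ᵥ x))
      = 2 * t * ((M *ᵥ x) ⬝ᵥ (M *ᵥ x)) + t ^ 2 * qf M (M *ᵥ x) := by
    intro t
    have h1 : x ⬝ᵥ (M *ᵥ (M *ᵥ x)) = (M *ᵥ x) ⬝ᵥ (M *ᵥ x) := by
      rw [dotProduct_mulVec, ← mulVec_transpose, hMs.eq]
    simp only [qf, mulVec_add, mulVec_smul, dotProduct_add, add_dotProduct, dotProduct_smul,
      smul_dotProduct, smul_eq_mul, h1]
    simp only [qf] at h0
    linear_combination h0.symm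
  obtain ⟨w, hw⟩ : ∃ w : ℝ, w = (M *ᵥ x) ⬝ᵥ (M *ᵥ x) := ⟨_, rfl⟩
  have hw0 : 0 ≤ w := hw ▸ Finset.sum_nonneg fun i _ => mul_self_nonneg _
  have hz : w = 0 := by
    by_contra hne
    have hwp : 0 < w := lt_of_le_of_ne hw0 (Ne.symm hne)
    have hc := hnn (M *ᵥ x)
    obtain ⟨c, hceq⟩ : ∃ c : ℝ, c = qf M (M *ᵥ x) := ⟨_, rfl⟩
    have h := hnn (x + (-(w / (c + 1))) • (M *ᵥ x))
    rw [hexp, ← hw, ← hceq] at h
    rw [← hceq] at hc
    have hc1 : 0 < c + 1 := by linarith
    field_simp at h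
    nlinarith
  have hMx : M *ᵥ x = 0 := dotProduct_self_eq_zero.mp (hw ▸ hz)
  have hU : IsUnit M.det := by
    rw [isUnit_iff_ne_zero, hM, show B.map (Int.cast : ℤ → ℝ) = B.map (Int.castRingHom ℝ) from rfl,
      ← RingHom.mapMatrix_apply, ← RingHom.map_det]
    simpa using hd
  have := congrArg (fun v => M⁻¹ *ᵥ v) hMx
  simpa [mulVec_mulVec, nonsing_inv_mul _ hU] using this

namespace Gram

variable (L : Gram)

/-- The norm of a lattice vector. -/
def N (x : Fin 24 → ℤ) : ℤ := x ⬝ᵥ (L.B *ᵥ x)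

/-- The real Gram matrix. -/
def RB : Matrix (Fin 24) (Fin 24) ℝ := L.B.map (Int.cast : ℤ → ℝ)

/-- The real Gram matrix of the dual lattice. -/
def RA : Matrix (Fin 24) (Fin 24) ℝ := L.B.adjugate.map (Int.cast : ℤ → ℝ)

lemma N_nonneg (x : Fin 24 → ℤ) : 0 ≤ L.N x := by
  by_cases hx : x = 0
  · simp [N, hx]
  · exact (L.pos x hx).le

lemma N_zero : L.N 0 = 0 := by simp [N]

lemma N_eq (x : Fin 24 → ℤ) : L.N x = 2 * (((L.N x / 2).toNat : ℕ) : ℤ) := by
  obtain ⟨k, hk⟩ := L.even x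
  have h0 := L.N_nonneg x
  simp only [N] at h0 ⊢
  omega

lemma qf_RB (x : Fin 24 → ℤ) : qf L.RB (toR x) = (L.N x : ℝ) := by
  simp only [qf, RB, N, dotProduct, mulVec, toR_apply, Matrix.map_apply]
  push_cast
  rfl

lemma toR_mulVec (M : Matrix (Fin 24) (Fin 24) ℤ) (x : Fin 24 → ℤ) :
    toR (M *ᵥ x) = M.map (Int.cast : ℤ → ℝ) *ᵥ toR x := by
  funext i
  simp [mulVec, dotProduct]

lemma adj_mul : L.B.adjugate * L.B = 1 := by rw [adjugate_mul, L.det_one, one_smul]

lemma mul_adj : L.B * L.B.adjugate = 1 := by rw [mul_adjugate, L.det_one, one_smul]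

lemma RA_mul : L.RA * L.RB = 1 := by
  have h := congrArg (fun M => M.map (Int.castRingHom ℝ)) L.adj_mul
  simp only [Matrix.map_mul, Matrix.map_one _ (map_zero _) (map_one _)] at h
  exact h

/-- The permutation of lattice coordinates given by the Gram matrix. -/
def dualEquiv : (Fin 24 → ℤ) ≃ (Fin 24 → ℤ) where
  toFun x := L.B *ᵥ x
  invFun y := L.B.adjugate *ᵥ y
  left_inv x := by simp [mulVec_mulVec, L.adj_mul]
  right_inv y := by simp [mulVec_mulVec, L.mul_adj]

lemma qf_RA (x : Fin 24 → ℤ) : qf L.RA (toR (L.dualEquiv x)) = (L.N x : ℝ) := by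
  rw [show L.dualEquiv x = L.B *ᵥ x from rfl, toR_mulVec, ← L.qf_RB]
  simp only [qf, mulVec_mulVec]
  rw [show L.B.map (Int.cast : ℤ → ℝ) = L.RB from rfl, L.RA_mul, one_mulVec, dotProduct_comm]

/-- The theta series. -/
def theta (z : ℂ) : ℂ := ∑' x : Fin 24 → ℤ, cexp (π * I * z * (L.N x : ℂ))

lemma summable_norm_bound {δ : ℝ} (hδ : 0 < δ) :
    Summable fun x : Fin 24 → ℤ => Real.exp (-(π * δ * (L.N x : ℝ))) := by
  refine (summable_qf_real L.RB L.realPos (mul_pos Real.pi_pos hδ) 0).congr fun x => ?_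
  rw [add_zero, L.qf_RB]

lemma norm_term (z : ℂ) (x : Fin 24 → ℤ) :
    ‖cexp (π * I * z * (L.N x : ℂ))‖ = Real.exp (-(π * z.im * (L.N x : ℝ))) := by
  rw [Complex.norm_exp]
  simp

lemma summable_term {z : ℂ} (hz : 0 < z.im) :
    Summable fun x : Fin 24 → ℤ => cexp (π * I * z * (L.N x : ℂ)) :=
  Summable.of_norm ((L.summable_norm_bound hz).congr fun x => (L.norm_term z x).symm)

lemma differentiableOn_theta : DifferentiableOn ℂ L.theta {z : ℂ | 0 < z.im} := by
  intro z hz
  have hδ : (0 : ℝ) < z.im / 2 := half_pos hz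
  have hU : IsOpen {w : ℂ | z.im / 2 < w.im} := isOpen_lt continuous_const Complex.continuous_im
  have hd := differentiableOn_tsum_of_summable_norm (L.summable_norm_bound hδ)
    (F := fun (x : Fin 24 → ℤ) (w : ℂ) => cexp (π * I * w * (L.N x : ℂ)))
    (U := {w : ℂ | z.im / 2 < w.im}) (fun x => by fun_prop) hU (fun x w hw => by
      rw [L.norm_term]
      refine Real.exp_le_exp.mpr (neg_le_neg (mul_le_mul_of_nonneg_right ?_ ?_))
      · exact mul_le_mul_of_nonneg_left (le_of_lt hw) Real.pi_pos.le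
      · exact_mod_cast L.N_nonneg x)
  exact ((hd.differentiableAt (hU.mem_nhds (by
    simp only [Set.mem_setOf_eq]; linarith))).differentiableWithinAt)

lemma theta_add_one (z : ℂ) : L.theta (z + 1) = L.theta z := by
  refine tsum_congr fun x => ?_
  obtain ⟨k, hk⟩ := L.even x
  rw [show (π : ℂ) * I * (z + 1) * (L.N x : ℂ) = π * I * z * (L.N x : ℂ) + (k : ℤ) * (2 * π * I)
    from by rw [N, hk]; push_cast; ring]
  rw [Complex.exp_add, Complex.exp_int_mul_two_pi_mul_I, mul_one]

lemma theta_transform {z : ℂ} (hz : 0 < z.im) : L.theta (-1 / z) = z ^ 12 * L.theta z := by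
  have hsym : L.RB.IsSymm := by
    refine IsSymm.ext fun i j => ?_
    simp [RB, L.symm.apply i j]
  obtain ⟨r, hr, hT⟩ := exists_gauss_transform 24 L.RB hsym L.realPos
  have key : ∀ w : ℂ, 0 < w.im → L.theta w = (r : ℂ) / w ^ 12 * L.theta (-1 / w) := by
    intro w hw
    have hw0 : w ≠ 0 := fun h => by simp [h] at hw
    have ha : 0 < (-I * w).re := by simpa using hw
    have h := hT L.RA L.RA_mul (-I * w) ha 0
    have hl : L.theta w = ∑' x : Fin 24 → ℤ, cexp (-π * (-I * w) * qf L.RB (toR x) +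
        2 * π * I * (((0 : Fin 24 → ℝ) ⬝ᵥ toR x : ℝ) : ℂ)) := by
      refine tsum_congr fun x => ?_
      rw [L.qf_RB, zero_dotProduct]
      congr 1
      push_cast
      ring
    have hp : ((-I * w) ^ (1 / 2 : ℂ)) ^ 24 = w ^ 12 := by
      rw [show (24 : ℕ) = 2 * 12 from rfl, pow_mul, show (1 / 2 : ℂ) = ((2 : ℕ) : ℂ)⁻¹ from by
        norm_num, Complex.cpow_nat_inv_pow _ two_ne_zero, mul_pow,
        show (-I) ^ 12 = (I ^ 4) ^ 3 from by ring, I_pow_four, one_pow, one_mul]
    rw [hl, h, hp]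
    congr 1
    rw [← L.dualEquiv.tsum_eq]
    refine tsum_congr fun x => ?_
    rw [add_zero, L.qf_RA, mul_inv, inv_neg, Complex.inv_I, neg_neg]
    congr 1
    push_cast
    field_simp
  have hI : 0 < (I : ℂ).im := by simp
  have hne : L.theta I ≠ 0 := by
    have he : L.theta I = ((∑' x : Fin 24 → ℤ, Real.exp (-(π * 1 * (L.N x : ℝ))) : ℝ) : ℂ) := by
      rw [Complex.ofReal_tsum, theta]
      refine tsum_congr fun x => ?_
      rw [Complex.ofReal_exp]
      congr 1
      push_cast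
      ring_nf
      rw [I_sq]
      ring
    rw [he, Complex.ofReal_ne_zero]
    exact ((L.summable_norm_bound one_pos).tsum_pos (fun _ => (Real.exp_pos _).le) 0
      (Real.exp_pos _)).ne'
  have hr1 : (r : ℂ) = 1 := by
    have h := key I hI
    rw [show (-1 : ℂ) / I = I from by rw [Complex.div_I]; ring,
      show (I : ℂ) ^ 12 = (I ^ 4) ^ 3 from by ring, I_pow_four, one_pow, div_one] at h
    exact mul_right_cancel₀ hne (h.symm.trans (one_mul _).symm)
  have hz0 : z ≠ 0 := fun h => by simp [h] at hz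
  rw [key z hz, hr1]
  field_simp

set_option backward.isDefEq.respectTransparency.types false in
lemma theta_S : ((fun τ : ℍ => L.theta τ) ∣[(12 : ℤ)] ModularGroup.S) = fun τ : ℍ => L.theta τ := by
  ext τ
  have hτ : (τ : ℂ) ≠ 0 := τ.ne_zero
  rw [SL_slash_apply, UpperHalfPlane.modular_S_smul]
  simp [denom, ModularGroup.S, Matrix.SpecialLinearGroup.map_apply_coe]
  rw [show -(τ : ℂ)⁻¹ = -1 / (τ : ℂ) from by ring, L.theta_transform τ.2]
  field_simp

set_option backward.isDefEq.respectTransparency.types false in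
lemma theta_T : ((fun τ : ℍ => L.theta τ) ∣[(12 : ℤ)] ModularGroup.T) = fun τ : ℍ => L.theta τ := by
  ext τ
  rw [SL_slash_apply, denom, modular_T_smul, ModularGroup.T]
  simp only [UpperHalfPlane.coe_vadd]
  rw [show ((1 : ℝ) : ℂ) + (τ : ℂ) = (τ : ℂ) + 1 from by push_cast; ring, L.theta_add_one]
  simp [Matrix.SpecialLinearGroup.map_apply_coe]

lemma theta_bounded : IsBoundedAtImInfty fun τ : ℍ => L.theta τ := by
  rw [UpperHalfPlane.isBoundedAtImInfty_iff]
  refine ⟨∑' x : Fin 24 → ℤ, Real.exp (-(π * 1 * (L.N x : ℝ))), 1, fun τ hτ => ?_⟩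
  have hτ0 : 0 < (τ : ℂ).im := τ.2
  refine (norm_tsum_le_tsum_norm (L.summable_term hτ0).norm).trans
    (Summable.tsum_le_tsum (fun x => ?_) (L.summable_term hτ0).norm
      (L.summable_norm_bound one_pos))
  rw [L.norm_term]
  refine Real.exp_le_exp.mpr (neg_le_neg (mul_le_mul_of_nonneg_right ?_ ?_))
  · exact mul_le_mul_of_nonneg_left hτ Real.pi_pos.le
  · exact_mod_cast L.N_nonneg x

/-- The theta series as a modular form. -/
def thetaForm : ModularForm 𝒮ℒ 12 where
  toFun τ := L.theta τ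
  slash_action_eq' A hA := by
    obtain ⟨A, rfl⟩ := hA
    exact slash_action_generators_SL2Z L.theta_S L.theta_T A
  holo' := by
    rw [UpperHalfPlane.mdifferentiable_iff]
    refine L.differentiableOn_theta.congr fun z hz => ?_
    simp [ofComplex_apply_of_im_pos hz]
  bdd_at_cusps' hc := by
    rw [Subgroup.IsArithmetic.isCusp_iff_isCusp_SL2Z] at hc
    rw [OnePoint.isBoundedAt_iff_forall_SL2Z hc]
    intro γ _
    rw [slash_action_generators_SL2Z L.theta_S L.theta_T γ]
    exact L.theta_bounded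

lemma fiber_finite (m : ℕ) : {x : Fin 24 → ℤ | L.N x = 2 * (m : ℤ)}.Finite := by
  have h := (L.summable_norm_bound one_pos).tendsto_cofinite_zero.eventually
    (gt_mem_nhds (Real.exp_pos (-(π * 1 * (2 * (m : ℝ))))))
  rw [Filter.eventually_cofinite] at h
  refine h.subset fun x hx => ?_
  simp only [Set.mem_setOf_eq] at hx ⊢
  rw [hx]
  simp

/-- The number of vectors of norm `2 m`. -/
def count (m : ℕ) : ℕ := {x : Fin 24 → ℤ | L.N x = 2 * (m : ℤ)}.ncard

lemma hasSum_theta (τ : ℍ) :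
    HasSum (fun m => (L.count m : ℂ) • Function.Periodic.qParam 1 τ ^ m) (L.thetaForm τ) := by
  have hs : HasSum (fun x : Fin 24 → ℤ => cexp (π * I * (τ : ℂ) * (L.N x : ℂ)))
      (L.thetaForm τ) := (L.summable_term τ.2).hasSum
  have h := hs.tsum_fiberwise fun x => (L.N x / 2).toNat
  refine h.congr_fun fun m => ?_
  have hset : ((fun x => (L.N x / 2).toNat) ⁻¹' {m}) = {x : Fin 24 → ℤ | L.N x = 2 * (m : ℤ)} := by
    ext x
    have h1 := L.N_eq x
    simp only [Set.mem_preimage, Set.mem_singleton_iff, Set.mem_setOf_eq]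
    omega
  rw [hset]
  have hconst : ∀ b : {x : Fin 24 → ℤ | L.N x = 2 * (m : ℤ)},
      cexp (π * I * (τ : ℂ) * (L.N (b : Fin 24 → ℤ) : ℂ))
        = Function.Periodic.qParam 1 (τ : ℂ) ^ m := by
    intro b
    rw [show L.N (b : Fin 24 → ℤ) = 2 * (m : ℤ) from b.2, Function.Periodic.qParam,
      ← Complex.exp_nat_mul]
    congr 1
    push_cast
    ring
  have := (L.fiber_finite m).to_subtype
  rw [tsum_congr hconst, tsum_const, nsmul_eq_mul, Nat.card_coe_set_eq, smul_eq_mul, count]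

lemma coeff_theta (m : ℕ) : (qExpansion 1 L.thetaForm).coeff m = (L.count m : ℂ) :=
  (ModularFormClass.qExpansion_coeff_unique one_pos one_mem_strictPeriods_SL L.hasSum_theta m).symm

lemma count_zero : L.count 0 = 1 := by
  have h : {x : Fin 24 → ℤ | L.N x = 2 * ((0 : ℕ) : ℤ)} = {0} := by
    ext x
    simp only [Set.mem_setOf_eq, Nat.cast_zero, mul_zero, Set.mem_singleton_iff]
    constructor
    · intro hx
      by_contra hne
      exact absurd hx (L.pos x hne).ne'
    · rintro rfl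
      exact L.N_zero
  rw [count, h, Set.ncard_singleton]

/-- The combination of Eisenstein series which equals the theta series. -/
def target : ModularForm 𝒮ℒ 12 :=
  (7 / 12 : ℂ) • ModularForm.mcast (by decide) (E₄.pow 3)
    + (5 / 12 : ℂ) • ModularForm.mcast (by decide) (E₆.pow 2)

end Gram

lemma E₄_coeff (m : ℕ) (hm : m ≠ 0) :
    (qExpansion 1 E₄).coeff m = 240 * (ArithmeticFunction.sigma 3 m : ℂ) := by
  rw [E_qExpansion_coeff _ ⟨2, rfl⟩, if_neg hm, show bernoulli 4 = -1 / 30 by decide +kernel]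
  norm_num

lemma E₆_coeff (m : ℕ) (hm : m ≠ 0) :
    (qExpansion 1 E₆).coeff m = -504 * (ArithmeticFunction.sigma 5 m : ℂ) := by
  rw [E_qExpansion_coeff _ ⟨3, rfl⟩, if_neg hm, show bernoulli 6 = 1 / 42 by decide +kernel]
  norm_num

lemma target_coeff :
    (qExpansion 1 Gram.target).coeff 0 = 1 ∧ (qExpansion 1 Gram.target).coeff 1 = 0 ∧
    (qExpansion 1 Gram.target).coeff 2 = 196560 ∧
    (qExpansion 1 Gram.target).coeff 3 = 16773120 ∧
    (qExpansion 1 Gram.target).coeff 4 = 398034000 := by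
  have hq : qExpansion 1 Gram.target = (7 / 12 : ℂ) • qExpansion 1 E₄ ^ 3
      + (5 / 12 : ℂ) • qExpansion 1 E₆ ^ 2 := by
    rw [Gram.target, FunLike.coe_add,
      ModularForm.qExpansion_add one_pos one_mem_strictPeriods_SL, FunLike.coe_smul,
      FunLike.coe_smul, ModularForm.qExpansion_smul one_pos one_mem_strictPeriods_SL,
      ModularForm.qExpansion_smul one_pos one_mem_strictPeriods_SL, coe_mcast, coe_mcast,
      ModularForm.qExpansion_pow one_pos one_mem_strictPeriods_SL,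
      ModularForm.qExpansion_pow one_pos one_mem_strictPeriods_SL]
  have a0 := E_qExpansion_coeff_zero (k := 4) (by norm_num) ⟨2, rfl⟩
  have b0 := E_qExpansion_coeff_zero (k := 6) (by norm_num) ⟨3, rfl⟩
  have s31 : ArithmeticFunction.sigma 3 1 = 1 := by decide
  have s32 : ArithmeticFunction.sigma 3 2 = 9 := by decide
  have s33 : ArithmeticFunction.sigma 3 3 = 28 := by decide
  have s34 : ArithmeticFunction.sigma 3 4 = 73 := by decide
  have s51 : ArithmeticFunction.sigma 5 1 = 1 := by decide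
  have s52 : ArithmeticFunction.sigma 5 2 = 33 := by decide
  have s53 : ArithmeticFunction.sigma 5 3 = 244 := by decide
  have s54 : ArithmeticFunction.sigma 5 4 = 1057 := by decide
  refine ⟨?_, ?_, ?_, ?_, ?_⟩ <;>
    · rw [hq]
      norm_num [pow_succ, pow_zero, PowerSeries.coeff_mul, Finset.Nat.antidiagonal_succ,
        a0, b0, E₄_coeff 1, E₄_coeff 2, E₄_coeff 3, E₄_coeff 4, E₆_coeff 1, E₆_coeff 2,
        E₆_coeff 3, E₆_coeff 4, s31, s32, s33, s34, s51, s52, s53, s54,
        -PowerSeries.coeff_zero_eq_constantCoeff]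

namespace Gram

variable (L : Gram)

theorem count_four_six_eight (h2 : ∀ x : Fin 24 → ℤ, L.N x ≠ 2) :
    L.count 2 = 196560 ∧ L.count 3 = 16773120 ∧ L.count 4 = 398034000 := by
  obtain ⟨t0, t1, t2, t3, t4⟩ := target_coeff
  have hc1 : L.count 1 = 0 := by
    have : {x : Fin 24 → ℤ | L.N x = 2 * ((1 : ℕ) : ℤ)} = ∅ := by
      ext x
      simpa using h2 x
    rw [count, this, Set.ncard_empty]
  have hsub : qExpansion 1 (L.thetaForm - target : ModularForm 𝒮ℒ 12)
      = qExpansion 1 L.thetaForm - qExpansion 1 target := by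
    rw [FunLike.coe_sub, ModularForm.qExpansion_sub one_pos one_mem_strictPeriods_SL]
  have hd : L.thetaForm - target = (0 : ModularForm 𝒮ℒ ((12 : ℕ) : ℤ)) := by
    refine sturm_bound_levelOne_nat (k := 12) ?_
    refine lt_of_lt_of_le (b := ((2 : ℕ) : ℕ∞)) (by norm_num) ?_
    refine PowerSeries.nat_le_order _ _ fun i hi => ?_
    rw [hsub, map_sub, L.coeff_theta]
    interval_cases i
    · rw [t0, L.count_zero]; norm_num
    · rw [t1, hc1]; norm_num
  have he : L.thetaForm = target := sub_eq_zero.mp hd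
  refine ⟨?_, ?_, ?_⟩
  · have := L.coeff_theta 2
    rw [he, t2] at this
    exact_mod_cast this.symm
  · have := L.coeff_theta 3
    rw [he, t3] at this
    exact_mod_cast this.symm
  · have := L.coeff_theta 4
    rw [he, t4] at this
    exact_mod_cast this.symm

end Gram

end CfsgLib.ThetaLattice
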